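import Mathlib.AlgebraicGeometry.IdealSheaf.Subscheme
import Mathlib.AlgebraicGeometry.Morphisms.Affine
import Mathlib.AlgebraicGeometry.Morphisms.Etale
import Mathlib.AlgebraicGeometry.Morphisms.QuasiFinite
import Groth.Agent.BlowUpBasics.IdealComap

/-!
# Points and ideals of affine schemes in terms of global sections
-/

set_option autoImplicit false

universe u

open CategoryTheory AlgebraicGeometry Opposite

namespace Groth.AlgSp2.Chevalley

noncomputable section

variable {X Y : Scheme.{u}}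

/-- The prime of the global sections at a point. -/
def pt (x : X) : Ideal Γ(X, ⊤) := (X.toSpecΓ x).asIdeal

instance isPrime_pt (x : X) : (pt x).IsPrime := (X.toSpecΓ x).isPrime

theorem pt_map (f : X ⟶ Y) (x : X) : pt (f x) = (pt x).comap f.appTop.hom := by
  have h : (f ≫ Y.toSpecΓ) x = (X.toSpecΓ ≫ Spec.map f.appTop) x := by
    rw [Scheme.toSpecΓ_naturality]
  exact congrArg PrimeSpectrum.asIdeal h

theorem exists_pt [IsAffine X] (p : Ideal Γ(X, ⊤)) [hp : p.IsPrime] : ∃ x : X, pt x = p := by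
  obtain ⟨x, hx⟩ := X.toSpecΓ.homeomorph.surjective ⟨p, hp⟩
  exact ⟨x, congrArg PrimeSpectrum.asIdeal hx⟩

theorem notMem_pt_iff (x : X) (a : Γ(X, ⊤)) : a ∉ pt x ↔ x ∈ X.basicOpen a := by
  rw [← Scheme.toSpecΓ_preimage_basicOpen]
  rfl

theorem pt_injective [IsAffine X] : Function.Injective (pt : X → Ideal Γ(X, ⊤)) := fun _ _ h =>
  X.toSpecΓ.homeomorph.injective (PrimeSpectrum.ext h)

/-- The ideal of global sections of an ideal sheaf. -/
def topIdeal [IsAffine X] (I : X.IdealSheafData) : Ideal Γ(X, ⊤) := I.ideal ⟨⊤, isAffineOpen_top X⟩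

theorem topIdeal_comap [IsAffine X] [IsAffine Y] (f : X ⟶ Y) (I : Y.IdealSheafData) :
    topIdeal (I.comap f) = (topIdeal I).map f.appTop.hom := by
  rw [topIdeal, topIdeal, BlowUpBasics.ideal_comap f I ⟨⊤, isAffineOpen_top Y⟩ ⟨⊤, isAffineOpen_top X⟩
    le_rfl]
  congr 2
  exact Scheme.Hom.appLE_eq_app ..

theorem topIdeal_ofIdealTop [IsAffine X] (I : Ideal Γ(X, ⊤)) :
    topIdeal (Scheme.IdealSheafData.ofIdealTop I) = I := by
  simp [topIdeal]

theorem topIdeal_injective [IsAffine X] {I J : X.IdealSheafData} (h : topIdeal I = topIdeal J) :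
    I = J :=
  Scheme.IdealSheafData.ext_of_isAffine h

theorem ker_subschemeι_appTop [IsAffine X] (I : X.IdealSheafData) :
    RingHom.ker I.subschemeι.appTop.hom = topIdeal I :=
  I.ker_subschemeι_app ⟨⊤, isAffineOpen_top X⟩

theorem appTop_subschemeι_surjective [IsAffine X] (I : X.IdealSheafData) :
    Function.Surjective I.subschemeι.appTop :=
  I.subschemeι_app_surjective ⟨⊤, isAffineOpen_top X⟩

/-- Two primes in a fibre of a locally quasi-finite morphism of affine schemes are incomparable. -/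
theorem eq_of_le_of_comap_eq [IsAffine X] [IsAffine Y] (f : X ⟶ Y) [LocallyQuasiFinite f]
    {q q' : Ideal Γ(X, ⊤)} (hq : q.IsPrime) (hq' : q'.IsPrime) (hle : q ≤ q')
    (h : q.comap f.appTop.hom = q'.comap f.appTop.hom) : q = q' := by
  have hf : f.appTop.hom.QuasiFinite :=
    (HasRingHomProperty.iff_of_isAffine (P := @LocallyQuasiFinite)).1 ‹_›
  algebraize [f.appTop.hom]
  exact Algebra.QuasiFinite.eq_of_le_of_under_eq q q' hle h

end

end Groth.AlgSp2.Chevalley
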