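import Groth.Agent.AlgSp2.Chevalley.NormInv
import Groth.Agent.AlgSp2.Chevalley.AffineDict
import Groth.Agent.AlgSp2.Approx.UnionScheme
import Groth.Agent.AlgSp2.InfGlue
import Groth.Agent.AlgSp2.LocPFpqc
import Groth.Agent.AlgSp3.RedInduced
import Groth.Agent.AlgSpCartier.Basic
import Groth.Agent.AlgSpBasic.SepLQFScheme
import Groth.Agent.AlgSpBasic.DiagProps
import Groth.Agent.Calg4.SmoothReduced
import Groth.Agent.FlatMor2.Chevalley.Approx
import Groth.Agent.DescentBase.DimEtale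
import Mathlib.RingTheory.TensorProduct.Quotient

/-!
# Chevalley's theorem for algebraic spaces: the minimal case
-/

set_option autoImplicit false
set_option linter.unusedSectionVars false
set_option backward.isDefEq.respectTransparency.types false
universe u

open CategoryTheory CategoryTheory.Limits AlgebraicGeometry Opposite AlgSp TensorProduct
open Groth.AlgSpBasic Groth.AlgSp2 Groth.AlgSpCartier

namespace Groth.AlgSp2.Chevalley

noncomputable section

theorem isRadical_map_of_etale {A C : Type u} [CommRing A] [CommRing C] (f : A →+* C) (hf : f.Etale)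
    (J : Ideal A) (hJ : J.IsRadical) : (J.map f).IsRadical := by
  algebraize [f]
  have : IsReduced (A ⧸ J) := J.isRadical_iff_quotient_reduced.1 hJ
  have := Groth.Calg4.isReduced_of_smooth (A ⧸ J) ((A ⧸ J) ⊗[A] C)
  have := isReduced_of_injective (Algebra.TensorProduct.comm A C (A ⧸ J)).toRingEquiv.toRingHom
    (Algebra.TensorProduct.comm A C (A ⧸ J)).injective
  have := isReduced_of_injective
    (Algebra.TensorProduct.quotIdealMapEquivTensorQuot C J).toRingEquiv.toRingHom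
    (Algebra.TensorProduct.quotIdealMapEquivTensorQuot C J).injective
  exact (Ideal.isRadical_iff_quotient_reduced _).2 this

variable {S : Scheme.{u}} {Z : Sp S} {V W R P Q : Over S}

theorem exists_scheme_sq {φ : (yon S).obj V ⟶ Z} {g : (yon S).obj W ⟶ Z} {t : R ⟶ V}
    {pw : P ⟶ W} {pv : P ⟶ V} (sqP : IsPullback ((yon S).map pw) ((yon S).map pv) g φ)
    {qw : Q ⟶ W} {qr : Q ⟶ R}
    (sqQ : IsPullback ((yon S).map qw) ((yon S).map qr) g ((yon S).map t ≫ φ)) :
    ∃ a : Q ⟶ P, a ≫ pw = qw ∧ IsPullback a.left qr.left pv.left t.left := by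
  obtain ⟨a, ha⟩ := (yon S).map_surjective (sqP.lift ((yon S).map qw)
    ((yon S).map qr ≫ (yon S).map t) (by rw [Category.assoc]; exact sqQ.w))
  have h : IsPullback ((yon S).map a) ((yon S).map qr) ((yon S).map pv) ((yon S).map t) :=
    IsPullback.of_right (by rw [ha, sqP.lift_fst]; exact sqQ)
      (by rw [ha, sqP.lift_snd]) sqP
  have w : a ≫ pv = qr ≫ t := (yon S).map_injective (by
    rw [Functor.map_comp, Functor.map_comp]; exact h.w)
  exact ⟨a, (yon S).map_injective (by rw [Functor.map_comp, ha, sqP.lift_fst]),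
    (IsPullback.of_map (yon S) w h).map (Over.forget S)⟩

/-- The algebraic data of a chart and a finite cover by an affine scheme. -/
theorem exists_datum [IsAffine V.left] [IsAffine R.left] [IsNoetherianRing Γ(V.left, ⊤)]
    {φ : (yon S).obj V ⟶ Z} (hφ : RepWith @Etale φ)
    {t s : R ⟶ V} (sqR : IsPullback ((yon S).map t) ((yon S).map s) φ φ)
    [Etale t.left] [Etale s.left]
    {g : (yon S).obj W ⟶ Z} (hgs : RepWith @Surjective g)
    (hirr : ∀ O₁ O₂ : Set (AlgSp.Points Z), IsOpen O₁ → IsOpen O₂ → O₁.Nonempty → O₂.Nonempty →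
      (O₁ ∩ O₂).Nonempty)
    [IsAffine P.left] {pw : P ⟶ W} {pv : P ⟶ V}
    (sqP : IsPullback ((yon S).map pw) ((yon S).map pv) g φ)
    {qw : Q ⟶ W} {qr : Q ⟶ R}
    (sqQ : IsPullback ((yon S).map qw) ((yon S).map qr) g ((yon S).map t ≫ φ)) :
    letI := pv.left.appTop.hom.toAlgebra
    ∃ t' s' : Γ(P.left, ⊤) →+* Γ(Q.left, ⊤), Datum t.left.appTop.hom s.left.appTop.hom
      pw.left.appTop.hom qr.left.appTop.hom t' s' := by
  obtain ⟨a, haw, hsqa⟩ := exists_scheme_sq sqP sqQ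
  obtain ⟨b, hbw, hsqb⟩ := exists_scheme_sq (t := s) sqP (qw := qw) (qr := qr)
    (by rw [← sqR.w]; exact sqQ)
  let := pv.left.appTop.hom.toAlgebra
  have hpts : ∀ r : R.left, AlgSp.Points.ofPt φ (t.left r) = AlgSp.Points.ofPt φ (s.left r) := fun r => by
    rw [← ofPt_comp_yon, ← ofPt_comp_yon, sqR.w]
  have hrel : ∀ v₁ v₂ : V.left, AlgSp.Points.ofPt φ v₁ = AlgSp.Points.ofPt φ v₂ →
      ∃ q : Ideal Γ(R.left, ⊤), q.IsPrime ∧ q.comap t.left.appTop.hom = pt v₁ ∧
        q.comap s.left.appTop.hom = pt v₂ := fun v₁ v₂ e => by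
    obtain ⟨r, h₁, h₂⟩ := (ofPt_eq_ofPt_iff sqR v₁ v₂).1 e
    exact ⟨pt r, inferInstance, by rw [← pt_map, h₁], by rw [← pt_map, h₂]⟩
  refine ⟨a.left.appTop.hom, b.left.appTop.hom, ?_⟩
  refine { eq := ?_, sqt := ?_, sqs := ?_, flat_t := ?_, flat_s := ?_, incomparable := ?_,
           radical := ?_, refl := ?_, symm := ?_, trans := ?_, conn := ?_, surj := ?_ }
  · show (pw.left.appTop ≫ a.left.appTop).hom = (pw.left.appTop ≫ b.left.appTop).hom
    rw [← Scheme.Hom.comp_appTop, ← Scheme.Hom.comp_appTop, ← Over.comp_left, ← Over.comp_left,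
      haw, hbw]
  · exact (isPushout_appTop_of_isPullback hsqa).flip
  · exact (isPushout_appTop_of_isPullback hsqb).flip
  · exact (HasRingHomProperty.iff_of_isAffine (P := @Flat)).1 (inferInstance : Flat t.left)
  · exact (HasRingHomProperty.iff_of_isAffine (P := @Flat)).1 (inferInstance : Flat s.left)
  · have := Groth.DescentBase.locallyQuasiFinite_of_etale s.left
    exact fun q q' hq hq' hle e => eq_of_le_of_comap_eq s.left hq hq' hle e
  · exact fun J hJ =>
      ⟨isRadical_map_of_etale _ ((HasRingHomProperty.iff_of_isAffine (P := @Etale)).1 ‹Etale t.left›) J hJ,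
        isRadical_map_of_etale _ ((HasRingHomProperty.iff_of_isAffine (P := @Etale)).1 ‹Etale s.left›) J hJ⟩
  · intro p hp
    obtain ⟨v, rfl⟩ := exists_pt p
    exact hrel v v rfl
  · intro q hq
    obtain ⟨r, rfl⟩ := exists_pt q
    rw [← pt_map, ← pt_map]
    exact hrel _ _ (hpts r).symm
  · intro q₁ q₂ hq₁ hq₂ e
    obtain ⟨r₁, rfl⟩ := exists_pt q₁
    obtain ⟨r₂, rfl⟩ := exists_pt q₂
    rw [← pt_map, ← pt_map] at e
    obtain ⟨q₃, h, h₁, h₂⟩ := hrel (t.left r₁) (s.left r₂) (by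
      rw [hpts r₁, pt_injective e, hpts r₂])
    exact ⟨q₃, h, by rw [h₁, pt_map], by rw [h₂, pt_map]⟩
  · intro p₁ hp₁ p₂ hp₂
    classical
    have hfin := minimalPrimes.finite_of_isNoetherianRing (R := Γ(V.left, ⊤))
    have hsel : ∀ p ∈ minimalPrimes Γ(V.left, ⊤),
        ∃ x : Γ(V.left, ⊤), x ∉ p ∧ ∀ p' ∈ minimalPrimes Γ(V.left, ⊤), x ∉ p' → p' = p := by
      intro p hp
      have hne : ¬ (hfin.toFinset.erase p).inf id ≤ p := fun h => by
        obtain ⟨p', hp', hle⟩ := (Ideal.IsPrime.inf_le' hp.isPrime).1 h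
        obtain ⟨hne, hmem⟩ := Finset.mem_erase.1 hp'
        have hm := hfin.mem_toFinset.1 hmem
        exact hne (le_antisymm hle (hp.2 ⟨hm.isPrime, bot_le⟩ hle))
      obtain ⟨x, hx, hxp⟩ := Set.not_subset.1 hne
      refine ⟨x, hxp, fun p' hp' hxp' => by_contra fun hne => hxp' ?_⟩
      exact (Finset.inf_le (f := id) (Finset.mem_erase.2 ⟨hne, hfin.mem_toFinset.2 hp'⟩)) hx
    obtain ⟨x₁, hx₁, hx₁'⟩ := hsel p₁ hp₁
    obtain ⟨x₂, hx₂, hx₂'⟩ := hsel p₂ hp₂
    obtain ⟨v₁, hv₁⟩ := @exists_pt _ _ p₁ hp₁.isPrime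
    obtain ⟨v₂, hv₂⟩ := @exists_pt _ _ p₂ hp₂.isPrime
    have hopen := fun x : Γ(V.left, ⊤) =>
      isOpenMap_ofPt_of_etale hφ _ (V.left.basicOpen x).isOpen
    obtain ⟨_, ⟨w₁, hw₁, rfl⟩, w₂, hw₂, hw⟩ := hirr _ _ (hopen x₁) (hopen x₂)
      ⟨_, v₁, (notMem_pt_iff v₁ x₁).1 (hv₁ ▸ hx₁), rfl⟩
      ⟨_, v₂, (notMem_pt_iff v₂ x₂).1 (hv₂ ▸ hx₂), rfl⟩
    obtain ⟨r, hr₁, hr₂⟩ := (ofPt_eq_ofPt_iff sqR w₁ w₂).1 hw.symm
    obtain ⟨q, hq, hqr⟩ := Ideal.exists_minimalPrimes_le (I := (⊥ : Ideal Γ(R.left, ⊤))) (J := pt r) bot_le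
    have := hq.isPrime
    have hcomap : ∀ f : Γ(V.left, ⊤) →+* Γ(R.left, ⊤), f.Flat → q.comap f ∈ minimalPrimes Γ(V.left, ⊤) := by
      intro f hf
      algebraize [f]
      refine ⟨⟨inferInstance, bot_le⟩, fun p₀ hp₀ hle => ?_⟩
      have := hp₀.1
      have : q.LiesOver (q.comap f) := ⟨rfl⟩
      obtain ⟨q₁, hq₁, hq₁p, hq₁o⟩ := Ideal.exists_ideal_le_liesOver_of_le (Q := q)
        (p := p₀) (q := q.comap f) hle
      have e := le_antisymm hq₁ (hq.2 ⟨hq₁p, bot_le⟩ hq₁)
      subst e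
      exact hq₁o.over.ge
    have hq₁ : q.comap t.left.appTop.hom = p₁ :=
      hx₁' _ (hcomap _ ((HasRingHomProperty.iff_of_isAffine (P := @Flat)).1 inferInstance)) fun h =>
        (notMem_pt_iff w₁ x₁).2 hw₁ (by rw [← hr₁, pt_map]; exact hqr h)
    have hq₂ : q.comap s.left.appTop.hom = p₂ :=
      hx₂' _ (hcomap _ ((HasRingHomProperty.iff_of_isAffine (P := @Flat)).1 inferInstance)) fun h =>
        (notMem_pt_iff w₂ x₂).2 hw₂ (by rw [← hr₂, pt_map]; exact hqr h)
    exact ⟨q, inferInstance, hq₁, hq₂⟩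
  · intro p hp
    obtain ⟨v, rfl⟩ := exists_pt p
    have : Surjective pv.left := repWith_fst_of_isPullback sqP hgs
    obtain ⟨x, rfl⟩ := pv.left.surjective v
    exact ⟨pt x, inferInstance, (pt_map pv.left x).symm⟩

/-- Proper closed subspaces of a minimal space give the input of the norm construction. -/
theorem closed_hyp [IsAffine V.left] [IsAffine W.left] [IsAffine R.left] [IsAffine P.left]
    (hZ : IsAlgSpace Z) {φ : (yon S).obj V ⟶ Z} (hφ : RepWith @Etale φ) (hφs : RepWith @Surjective φ)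
    {t s : R ⟶ V} (sqR : IsPullback ((yon S).map t) ((yon S).map s) φ φ)
    {g : (yon S).obj W ⟶ Z} (hg : RepWith @IsFinite g) (hgs : RepWith @Surjective g)
    (hmin : ∀ (T : Sp S) (i : T ⟶ Z), RepWith @IsClosedImmersion i → ¬ IsIso i →
      T.obj.IsRepresentable)
    {pw : P ⟶ W} {pv : P ⟶ V} (sqP : IsPullback ((yon S).map pw) ((yon S).map pv) g φ)
    (I : Ideal Γ(V.left, ⊤)) (hI : I.map t.left.appTop.hom = I.map s.left.appTop.hom)
    (hImin : ∀ p ∈ minimalPrimes Γ(V.left, ⊤), ¬ I ≤ p) :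
    (∃ IB : Ideal Γ(W.left, ⊤), IB.map pw.left.appTop.hom = I.map pv.left.appTop.hom) ∧
      ∀ p p' : Ideal Γ(V.left, ⊤), p.IsPrime → p'.IsPrime → I ≤ p → p < p' →
        ∃ (x : Γ(V.left, ⊤)) (b : Γ(W.left, ⊤)), x ∈ p' ∧ x ∉ p ∧
          pw.left.appTop.hom b - pv.left.appTop.hom x ∈ I.map pv.left.appTop.hom := by
  by_cases htriv : I = ⊥
  · subst htriv
    refine ⟨⟨⊥, by rw [Ideal.map_bot, Ideal.map_bot]⟩, fun p p' hp hp' _ _ => ?_⟩
    obtain ⟨m, hm, -⟩ := Ideal.exists_minimalPrimes_le (I := (⊥ : Ideal Γ(V.left, ⊤))) (J := p) bot_le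
    exact absurd bot_le (hImin m hm)
  let J := Scheme.IdealSheafData.ofIdealTop I
  have hJ : Groth.AlgSp3.IsInvIdeal φ J := Groth.AlgSp3.isInvIdeal_of_rel sqR (topIdeal_injective (by
    rw [topIdeal_comap, topIdeal_comap, topIdeal_ofIdealTop, hI]))
  obtain ⟨T, i, fT, hT, hi, sqT⟩ := Groth.AlgSp3.exists_closedSub hZ hφ hφs hJ
  have hni : ¬ IsIso i := fun h => by
    have h2 : IsIso ((yon S).map (incl V J)) := sqT.isIso_snd_of_isIso
    have : IsIso (incl V J) := isIso_of_reflects_iso _ (yon S)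
    have : IsIso J.subschemeι := inferInstanceAs (IsIso ((Over.forget S).map (incl V J)))
    refine htriv (eq_bot_iff.2 fun x hx => ?_)
    rw [← topIdeal_ofIdealTop I, ← ker_subschemeι_appTop, RingHom.mem_ker] at hx
    have : IsIso J.subschemeι.appTop := inferInstanceAs (IsIso (J.subschemeι.app ⊤))
    exact (ConcreteCategory.bijective_of_isIso J.subschemeι.appTop).1 (hx.trans (map_zero _).symm)
  obtain ⟨T₀, ⟨rT⟩⟩ := hmin T i hi hni
  let e := isoOfRepresentableBy rT
  obtain ⟨JW, fW, sqW⟩ := exists_ideal hi g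
  obtain ⟨JP, fP, sqJP⟩ := exists_ideal hi ((yon S).map pw ≫ g)
  have hcW : JW.comap pw.left = JP := comap_eq_of_isPullback sqW sqJP pw rfl
  have hcV : J.comap pv.left = JP := comap_eq_of_isPullback sqT sqJP pv sqP.w.symm
  have hIB : (topIdeal JW).map pw.left.appTop.hom = I.map pv.left.appTop.hom := by
    rw [← topIdeal_comap, hcW, ← hcV, topIdeal_comap, topIdeal_ofIdealTop]
  refine ⟨⟨_, hIB⟩, fun p p' hp hp' hIp hlt => ?_⟩
  obtain ⟨hW, hhW⟩ := (yon S).map_surjective (fW ≫ e.inv)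
  have hWf : IsFinite hW.left := (repWith_yon_map_iff @IsFinite hW).1 (by
    rw [hhW]; exact repWith_comp (repWith_of_isPullback sqW.flip hg) (repWith_isIso _))
  have hWs : Surjective hW.left := (repWith_yon_map_iff @Surjective hW).1 (by
    rw [hhW]; exact repWith_comp (repWith_of_isPullback sqW.flip hgs) (repWith_isIso _))
  have : IsAffine (subOver W JW).left := isAffine_of_isAffineHom JW.subschemeι
  have : IsAffine (subOver V J).left := isAffine_of_isAffineHom J.subschemeι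
  have : IsAffine (subOver P JP).left := isAffine_of_isAffineHom JP.subschemeι
  have : IsAffine T₀.left := Groth.FlatMor2.Chevalley.isAffine_of_universallyClosed_surjective hW.left
  obtain ⟨τ, hτ⟩ := (yon S).map_surjective (fT ≫ e.inv)
  have hτe : Etale τ.left := (repWith_yon_map_iff @Etale τ).1 (by
    rw [hτ]; exact repWith_comp (repWith_of_isPullback sqT.flip hφ) (repWith_isIso _))
  have := Groth.DescentBase.locallyQuasiFinite_of_etale τ.left
  -- separate the primes on the closed subspace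
  let u := J.subschemeι.appTop.hom
  have hu : Function.Surjective u := appTop_subschemeι_surjective J
  have hker : RingHom.ker u = I := by rw [ker_subschemeι_appTop, topIdeal_ofIdealTop]
  have hp₁ : (p.map u).IsPrime := Ideal.map_isPrime_of_surjective hu (hker.trans_le hIp)
  have hp₂ : (p'.map u).IsPrime :=
    Ideal.map_isPrime_of_surjective hu (hker.trans_le (hIp.trans hlt.le))
  have hback : ∀ m : Ideal Γ(V.left, ⊤), I ≤ m → (m.map u).comap u = m := fun m hm => by
    rw [Ideal.comap_map_of_surjective _ hu, ← RingHom.ker_eq_comap_bot, hker, sup_eq_left.2 hm]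
  have hne : (p.map u).comap τ.left.appTop.hom ≠ (p'.map u).comap τ.left.appTop.hom := fun h => by
    have e2 := eq_of_le_of_comap_eq τ.left hp₁ hp₂ (Ideal.map_mono hlt.le) h
    exact hlt.ne (by rw [← hback p hIp, e2, hback p' (hIp.trans hlt.le)])
  obtain ⟨x₀, hx₀', hx₀⟩ := SetLike.exists_of_lt
    (lt_of_le_of_ne (Ideal.comap_mono (f := τ.left.appTop.hom) (Ideal.map_mono hlt.le)) hne)
  obtain ⟨x, hx⟩ := hu (τ.left.appTop.hom x₀)
  obtain ⟨b, hb⟩ := appTop_subschemeι_surjective JW (hW.left.appTop.hom x₀)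
  refine ⟨x, b, ?_, fun h => hx₀ ?_, ?_⟩
  · rw [← hback p' (hIp.trans hlt.le), Ideal.mem_comap, hx]; exact hx₀'
  · rw [Ideal.mem_comap, ← hx]; exact Ideal.mem_map_of_mem _ h
  -- the congruence on the pullback
  obtain ⟨l₁, hl₁⟩ := (yon S).map_surjective (sqW.lift fP ((yon S).map (incl P JP ≫ pw))
    (by rw [Functor.map_comp, Category.assoc]; exact sqJP.w))
  obtain ⟨l₂, hl₂⟩ := (yon S).map_surjective (sqT.lift fP ((yon S).map (incl P JP ≫ pv))
    (by rw [Functor.map_comp, Category.assoc, ← sqP.w]; exact sqJP.w))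
  have w₁ : l₁ ≫ incl W JW = incl P JP ≫ pw := (yon S).map_injective (by
    rw [Functor.map_comp, hl₁, sqW.lift_snd])
  have w₂ : l₂ ≫ incl V J = incl P JP ≫ pv := (yon S).map_injective (by
    rw [Functor.map_comp, hl₂]; exact sqT.lift_snd _ _ _)
  have w₃ : l₁ ≫ hW = l₂ ≫ τ := (yon S).map_injective (by
    rw [Functor.map_comp, Functor.map_comp, hl₁, hl₂, hhW, hτ, sqW.lift_fst_assoc,
      sqT.lift_fst_assoc])
  have hmem : I.map pv.left.appTop.hom = RingHom.ker JP.subschemeι.appTop.hom := by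
    rw [ker_subschemeι_appTop, ← hcV, topIdeal_comap, topIdeal_ofIdealTop]
  rw [hmem, RingHom.mem_ker, map_sub, sub_eq_zero]
  have c₁ : (l₁ ≫ incl W JW).left.appTop.hom b = (incl P JP ≫ pw).left.appTop.hom b := by rw [w₁]
  have c₂ : (l₂ ≫ incl V J).left.appTop.hom x = (incl P JP ≫ pv).left.appTop.hom x := by rw [w₂]
  have c₃ : (l₁ ≫ hW).left.appTop.hom x₀ = (l₂ ≫ τ).left.appTop.hom x₀ := by rw [w₃]
  simp only [Over.comp_left, Scheme.Hom.comp_appTop,
    CommRingCat.hom_comp, RingHom.comp_apply] at c₁ c₂ c₃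
  exact c₁.symm.trans ((congrArg _ hb).trans (c₃.trans ((congrArg _ hx.symm).trans c₂)))

/-- The minimal case: the invariant functions define a separated quasi-finite map to an affine scheme. -/
theorem isRepresentable_of_minimal [IsAffine S] [IsLocallyNoetherian S] (hZ : IsAlgSpace Z)
    (hqc : IsQuasiCompactSp Z) {q₀ : Z ⟶ (yon S).obj (Over.mk (𝟙 S))} (hsep : IsSeparatedMor q₀)
    (hlft : LocP @LocallyOfFiniteType q₀) (hr : IsReducedSp Z)
    [IsAffine W.left] {g : (yon S).obj W ⟶ Z} (hg : RepWith @IsFinite g)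
    (hgs : RepWith @Surjective g)
    (hirr : ∀ O₁ O₂ : Set (AlgSp.Points Z), IsOpen O₁ → IsOpen O₂ → O₁.Nonempty → O₂.Nonempty →
      (O₁ ∩ O₂).Nonempty)
    (hmin : ∀ (T : Sp S) (i : T ⟶ Z), RepWith @IsClosedImmersion i → ¬ IsIso i →
      T.obj.IsRepresentable) :
    Z.obj.IsRepresentable := by
  obtain ⟨V, φ, hV, hφ, hφs⟩ := exists_affine_chart hZ hqc
  obtain ⟨R, t, s, sqR⟩ := exists_pullback_of_diag hZ.diag φ φ
  have : Etale t.left := (repWith_yon_map_iff _ t).1 (repWith_of_isPullback sqR.flip hφ)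
  have : Etale s.left := (repWith_yon_map_iff _ s).1 (repWith_of_isPullback sqR hφ)
  let Tt : Over S := Over.mk (𝟙 S)
  let ht : IsTerminal ((yon S).obj Tt) := IsTerminal.isTerminalObj (yon S) _ Over.mkIdTerminal
  let π₀ : V ⟶ Tt := Over.homMk V.hom (Category.comp_id _)
  have hπ₀ : φ ≫ q₀ = (yon S).map π₀ := ht.hom_ext _ _
  obtain ⟨w₀, hclosed⟩ := isClosedImmersion_of_isSeparatedMor hsep sqR hπ₀
  have : IsAffine Tt.left := ‹IsAffine S›
  have : IsAffine R.left := isAffine_of_isAffineHom (pullback.lift t.left s.left w₀)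
  have : IsReduced V.left := Groth.AlgSp2.Approx.isReduced_of_etale_chart hZ hr hφ
  have hVlft : LocallyOfFiniteType V.hom := hlft φ (𝟙 _) π₀ hφ (repWith_isIso _) (ht.hom_ext _ _)
  have : IsLocallyNoetherian V.left := LocallyOfFiniteType.isLocallyNoetherian V.hom
  have : IsNoetherianRing Γ(V.left, ⊤) :=
    IsLocallyNoetherian.component_noetherian ⟨⊤, isAffineOpen_top V.left⟩
  obtain ⟨P, pw, pv, sqP⟩ := exists_pullback_of_diag hZ.diag g φ
  have hpvf : IsFinite pv.left := repWith_fst_of_isPullback sqP hg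
  have : IsAffine P.left := isAffine_of_isAffineHom pv.left
  obtain ⟨Q, qw, qr, sqQ⟩ := exists_pullback_of_diag hZ.diag g ((yon S).map t ≫ φ)
  obtain ⟨t', s', D⟩ := exists_datum hφ sqR hgs hirr sqP sqQ
  let := pv.left.appTop.hom.toAlgebra
  have : Module.Finite Γ(V.left, ⊤) Γ(P.left, ⊤) :=
    ((HasAffineProperty.iff_of_isAffine (P := @IsFinite)).1 hpvf).2
  have hsepr : ∀ p p' : Ideal Γ(V.left, ⊤), p.IsPrime → p'.IsPrime → p < p' →
      ∃ x, t.left.appTop.hom x = s.left.appTop.hom x ∧ x ∈ p' ∧ x ∉ p := fun p p' hp hp' hlt =>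
    D.exists_separating (fun I hI hImin => closed_hyp hZ hφ hφs sqR hg hgs hmin sqP I hI hImin) p p' hlt
  -- invariant functions
  let A₀ : Subring Γ(V.left, ⊤) := RingHom.eqLocus t.left.appTop.hom s.left.appTop.hom
  have hkmem : ∀ x : Γ(S, ⊤), V.hom.appTop.hom x ∈ A₀ := fun x => by
    show (V.hom.appTop ≫ t.left.appTop).hom x = (V.hom.appTop ≫ s.left.appTop).hom x
    rw [← Scheme.Hom.comp_appTop, ← Scheme.Hom.comp_appTop, Over.w t, Over.w s]
  let k : Γ(S, ⊤) ⟶ CommRingCat.of A₀ := CommRingCat.ofHom (V.hom.appTop.hom.codRestrict A₀ hkmem)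
  let ι₀ : CommRingCat.of A₀ ⟶ Γ(V.left, ⊤) := CommRingCat.ofHom A₀.subtype
  have hkι : k ≫ ι₀ = V.hom.appTop := by ext x; rfl
  let M : Over S := Over.mk (Spec.map k ≫ S.isoSpec.inv)
  let π : V ⟶ M := Over.homMk (V.left.toSpecΓ ≫ Spec.map ι₀) (by
    show (V.left.toSpecΓ ≫ Spec.map ι₀) ≫ Spec.map k ≫ S.isoSpec.inv = V.hom
    rw [Category.assoc, ← Category.assoc (Spec.map ι₀), ← Spec.map_comp, hkι, ← Category.assoc,
      ← Scheme.toSpecΓ_naturality, Category.assoc, Scheme.toSpecΓ_isoSpec_inv, Category.comp_id])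
  have hπts : t ≫ π = s ≫ π := by
    ext1
    show t.left ≫ V.left.toSpecΓ ≫ Spec.map ι₀ = s.left ≫ V.left.toSpecΓ ≫ Spec.map ι₀
    rw [Scheme.toSpecΓ_naturality_assoc, Scheme.toSpecΓ_naturality_assoc, ← Spec.map_comp,
      ← Spec.map_comp]
    congr 2
    ext x
    exact x.2
  obtain ⟨f, hf⟩ := Groth.AlgSp2.exists_desc_of_etale φ hφ hφs ((yon S).map π) fun T p q e => by
    obtain ⟨l, hl⟩ := (yon S).map_surjective (sqR.lift p q e)
    calc p ≫ (yon S).map π = (yon S).map (l ≫ t ≫ π) := by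
          rw [Functor.map_comp, Functor.map_comp, hl, sqR.lift_fst_assoc]
      _ = q ≫ (yon S).map π := by
          rw [hπts, Functor.map_comp, Functor.map_comp, hl, sqR.lift_snd_assoc]
  have hfsep : IsSeparatedMor f := by
    let qM : (yon S).obj M ⟶ (yon S).obj Tt := ht.from _
    have e : f ≫ qM = q₀ := ht.hom_ext _ _
    have hc : IsSeparatedMor (f ≫ qM) := e.symm ▸ hsep
    let μ : pullback f f ⟶ pullback (f ≫ qM) (f ≫ qM) :=
      pullback.lift (pullback.fst f f) (pullback.snd f f) (by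
        rw [← Category.assoc, pullback.condition, Category.assoc])
    have hμ₁ : μ ≫ pullback.fst _ _ = pullback.fst f f := pullback.lift_fst _ _ _
    have hμ₂ : μ ≫ pullback.snd _ _ = pullback.snd f f := pullback.lift_snd _ _ _
    have : Mono μ := ⟨fun a b h => by
      refine pullback.hom_ext ?_ ?_
      · rw [← hμ₁, reassoc_of% h]
      · rw [← hμ₂, reassoc_of% h]⟩
    exact repWith_of_isPullback (isPullback_of_mono_comp
      (show pullback.diagonal f ≫ μ = pullback.diagonal (f ≫ qM) by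
        apply pullback.hom_ext
        · rw [Category.assoc, hμ₁, pullback.diagonal_fst, pullback.diagonal_fst]
        · rw [Category.assoc, hμ₂, pullback.diagonal_snd, pullback.diagonal_snd])) hc
  have hlftπ : LocallyOfFiniteType π.left := by
    have : LocallyOfFiniteType (π.left ≫ M.hom) := by rw [Over.w π]; exact hVlft
    exact locallyOfFiniteType_of_comp π.left M.hom
  have hSpec : LocallyOfFiniteType (Spec.map ι₀) :=
    (MorphismProperty.cancel_left_of_respectsIso @LocallyOfFiniteType V.left.toSpecΓ _).1 hlftπ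
  have hft : ι₀.hom.FiniteType := (HasRingHomProperty.Spec_iff (P := @LocallyOfFiniteType)).1 hSpec
  have hqf : ι₀.hom.QuasiFinite := by
    algebraize [ι₀.hom]
    refine Algebra.QuasiFinite.iff_finite_comap_preimage_singleton.2 fun q => ?_
    refine ((Ideal.finite_minimalPrimes_of_isNoetherianRing _
      (q.asIdeal.map (algebraMap _ Γ(V.left, ⊤)))).preimage
      (fun _ _ _ _ h => PrimeSpectrum.ext h)).subset ?_
    rintro m (hm : _ = q)
    refine ⟨⟨m.2, Ideal.map_le_iff_le_comap.2 (congrArg PrimeSpectrum.asIdeal hm).ge⟩,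
      fun m' hm' hle => ?_⟩
    by_contra hnle
    have := hm'.1
    obtain ⟨x, hx, hxm, hxm'⟩ := hsepr m' m.asIdeal this m.2 (lt_of_le_not_ge hle hnle)
    have h1 : (⟨x, hx⟩ : A₀) ∈ q.asIdeal := (congrArg PrimeSpectrum.asIdeal hm).le hxm
    exact hxm' (hm'.2 (Ideal.mem_map_of_mem _ h1))
  have hlqf : LocP (@LocallyQuasiFinite ⊓ @LocallyOfFiniteType) f := by
    refine locP_of_chart hZ.diag (IsAlgSpace.yon_obj M).diag hφ hφs (repWith_isIso (𝟙 _))
      (h := π) (by rw [hf, Category.comp_id]) ⟨?_, hlftπ⟩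
    show LocallyQuasiFinite (V.left.toSpecΓ ≫ Spec.map ι₀)
    exact (MorphismProperty.cancel_left_of_respectsIso @LocallyQuasiFinite V.left.toSpecΓ _).2
      ((HasRingHomProperty.Spec_iff (P := @LocallyQuasiFinite)).2 hqf)
  obtain ⟨G, ⟨e⟩⟩ := exists_iso_of_separated_lqf hZ hlqf hfsep
  exact isRepresentable_of_iso e

end

end Groth.AlgSp2.Chevalley
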