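import Groth.Agent.AlgSp2.Chevalley.AffineDict
import Groth.Agent.AlgSp2.Approx.AffineApprox
import Groth.Agent.AlgSp2.Approx.SchemeStage
import Groth.Agent.SpLimit.AffineLimit
import Groth.Agent.AlgSp3.KerFlat
import Groth.Agent.AlgSpCartier.Basic
import Mathlib.RingTheory.Adjoin.Basic
import Mathlib.RingTheory.IntegralClosure.IsIntegralClosure.Basic
import Mathlib.Algebra.Polynomial.Lifts

/-!
# Integral morphisms from affine schemes to limits factor through finite ones at a stage
-/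

set_option autoImplicit false
set_option linter.unusedSectionVars false
set_option backward.isDefEq.respectTransparency.types false
universe u

open CategoryTheory CategoryTheory.Limits AlgebraicGeometry Opposite AlgSp
open Groth.AlgSpBasic Groth.AlgSp2 Groth.AlgSpCartier Groth.SpLimit

namespace Groth.AlgSp2.Chevalley

noncomputable section

/-- The image of an affine scheme in a finite type scheme is finite if the coordinates are integral. -/
theorem isFinite_image {T' W' E : Scheme.{u}} [IsAffine T'] [IsAffine W'] [IsAffine E] (u : T' ⟶ W')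
    (q : W' ⟶ E) [LocallyOfFiniteType q]
    (h : ∀ z : Γ(W', ⊤), (u ≫ q).appTop.hom.IsIntegralElem (u.appTop.hom z)) :
    IsFinite (u.ker.subschemeι ≫ q) := by
  have : IsAffine u.ker.subscheme := isAffine_of_isAffineHom u.ker.subschemeι
  rw [IsFinite.iff_isIntegralHom_and_locallyOfFiniteType]
  refine ⟨(HasAffineProperty.iff_of_isAffine (P := @IsIntegralHom)).2 ⟨inferInstance, fun w => ?_⟩,
    inferInstance⟩
  obtain ⟨z, rfl⟩ := appTop_subschemeι_surjective u.ker w
  obtain ⟨P, hP, hPz⟩ := h z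
  refine ⟨P, hP, ?_⟩
  show Polynomial.eval₂ (u.ker.subschemeι ≫ q).appTop.hom (u.ker.subschemeι.appTop.hom z) P = 0
  have hker : RingHom.ker u.ker.subschemeι.appTop.hom = RingHom.ker u.appTop.hom := by
    rw [ker_subschemeι_appTop, Scheme.ker_of_isAffine u, topIdeal_ofIdealTop]
  have e1 : Polynomial.eval₂ (u.ker.subschemeι ≫ q).appTop.hom (u.ker.subschemeι.appTop.hom z) P =
      u.ker.subschemeι.appTop.hom (Polynomial.eval₂ q.appTop.hom z P) := by
    rw [Polynomial.hom_eval₂, Scheme.Hom.comp_appTop, CommRingCat.hom_comp]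
  have e2 : Polynomial.eval₂ (u ≫ q).appTop.hom (u.appTop.hom z) P =
      u.appTop.hom (Polynomial.eval₂ q.appTop.hom z P) := by
    rw [Polynomial.hom_eval₂, Scheme.Hom.comp_appTop, CommRingCat.hom_comp]
  rw [e1, ← RingHom.mem_ker, hker, RingHom.mem_ker, ← e2, hPz]

/-- The coordinates on a pullback are integral if those on the finite type factor are. -/
theorem isIntegralElem_of_isPullback {T' W₀ W' E V₀ : Scheme.{u}} [IsAffine W₀] [IsAffine V₀]
    [IsAffine E] {a : W' ⟶ W₀} {b : W' ⟶ E} {w : W₀ ⟶ V₀} {q : E ⟶ V₀}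
    (sq : IsPullback a b w q) (u : T' ⟶ W') (s : Set Γ(W₀, ⊤))
    (hs : letI := w.appTop.hom.toAlgebra; Algebra.adjoin Γ(V₀, ⊤) s = ⊤)
    (hx : ∀ x ∈ s, (u ≫ b).appTop.hom.IsIntegralElem ((u ≫ a).appTop.hom x)) (z : Γ(W', ⊤)) :
    (u ≫ b).appTop.hom.IsIntegralElem (u.appTop.hom z) := by
  let : Algebra Γ(V₀, ⊤) Γ(W₀, ⊤) := w.appTop.hom.toAlgebra
  let : Algebra Γ(V₀, ⊤) Γ(E, ⊤) := q.appTop.hom.toAlgebra
  let : Algebra Γ(W₀, ⊤) Γ(W', ⊤) := a.appTop.hom.toAlgebra
  let : Algebra Γ(E, ⊤) Γ(W', ⊤) := b.appTop.hom.toAlgebra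
  let : Algebra Γ(V₀, ⊤) Γ(W', ⊤) := (w.appTop ≫ a.appTop).hom.toAlgebra
  let : Algebra Γ(E, ⊤) Γ(T', ⊤) := (u ≫ b).appTop.hom.toAlgebra
  have hw : w.appTop ≫ a.appTop = q.appTop ≫ b.appTop := by
    rw [← Scheme.Hom.comp_appTop, ← Scheme.Hom.comp_appTop, sq.w]
  have : IsScalarTower Γ(V₀, ⊤) Γ(W₀, ⊤) Γ(W', ⊤) := IsScalarTower.of_algebraMap_eq fun _ => rfl
  have : IsScalarTower Γ(V₀, ⊤) Γ(E, ⊤) Γ(W', ⊤) := IsScalarTower.of_algebraMap_eq fun x =>
    congr($(hw).hom x)
  have : Algebra.IsPushout Γ(V₀, ⊤) Γ(E, ⊤) Γ(W₀, ⊤) Γ(W', ⊤) :=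
    CommRingCat.isPushout_iff_isPushout.1 (isPushout_appTop_of_isPullback sq).flip
  have key : ∀ g : Γ(W₀, ⊤), IsIntegral Γ(E, ⊤) ((u ≫ a).appTop.hom g) := by
    intro g
    have hg : g ∈ Algebra.adjoin Γ(V₀, ⊤) s := hs ▸ Algebra.mem_top
    induction hg using Algebra.adjoin_induction with
    | mem x h => exact hx x h
    | algebraMap r =>
      have e : (u ≫ a).appTop.hom (algebraMap Γ(V₀, ⊤) Γ(W₀, ⊤) r) =
          algebraMap Γ(E, ⊤) Γ(T', ⊤) (q.appTop.hom r) := by
        show ((w.appTop ≫ (u ≫ a).appTop).hom r) = (q.appTop ≫ (u ≫ b).appTop).hom r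
        simp only [Scheme.Hom.comp_appTop, ← Category.assoc, hw]
      rw [e]; exact isIntegral_algebraMap
    | add x y _ _ h₁ h₂ => rw [map_add]; exact h₁.add h₂
    | mul x y _ _ h₁ h₂ => rw [map_mul]; exact h₁.mul h₂
  obtain ⟨y, rfl⟩ := (Algebra.IsPushout.equiv Γ(V₀, ⊤) Γ(E, ⊤) Γ(W₀, ⊤) Γ(W', ⊤)).surjective z
  show IsIntegral Γ(E, ⊤) _
  induction y using TensorProduct.induction_on with
  | zero => rw [map_zero, map_zero]; exact isIntegral_zero
  | tmul r g =>
    rw [Algebra.IsPushout.equiv_tmul, map_mul]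
    have h1 : u.appTop.hom (algebraMap Γ(E, ⊤) Γ(W', ⊤) r) = algebraMap Γ(E, ⊤) Γ(T', ⊤) r := by
      show (b.appTop ≫ u.appTop).hom r = (u ≫ b).appTop.hom r
      rw [Scheme.Hom.comp_appTop]
    have h2 : u.appTop.hom (algebraMap Γ(W₀, ⊤) Γ(W', ⊤) g) = (u ≫ a).appTop.hom g := by
      rw [Scheme.Hom.comp_appTop]; rfl
    rw [h1, h2]
    exact isIntegral_algebraMap.mul (key g)
  | add x y h₁ h₂ => rw [map_add, map_add]; exact h₁.add h₂

variable {S : Scheme.{u}} [QuasiSeparatedSpace S] {I : Type u} [SmallCategory I] [IsCofiltered I]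
  {D : I ⥤ Sp S} {c : Cone D}

/-- An integral morphism from an affine scheme to a limit of qcqs spaces factors through a finite
morphism from an affine scheme to a stage. -/
theorem exists_finite_model (hD : ∀ i, IsAlgSpace (D.obj i))
    (hDa : ∀ (i j : I) (φ : i ⟶ j), IsAffineMor (D.map φ)) (hc : IsLimit c)
    (hqc : ∀ i, IsQuasiCompactSp (D.obj i)) (hqs : ∀ i, IsQuasiSeparatedSp (D.obj i))
    {T : Over S} [IsAffine T.left] {f : (yon S).obj T ⟶ c.pt} (hf : RepWith @IsIntegralHom f) :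
    ∃ (i : I) (M : Over S) (g : (yon S).obj M ⟶ D.obj i) (h : T ⟶ M), IsAffine M.left ∧
      RepWith @IsFinite g ∧ (yon S).map h ≫ g = f ≫ c.π.app i := by
  classical
  obtain ⟨i₀⟩ := IsCofiltered.nonempty (C := I)
  have hfπ : IsAffineMor (f ≫ c.π.app i₀) := isAffineMor_comp
    (isAffineMor_iff_repWith.2 (repWith_mono (P := @IsIntegralHom)
      isIntegralHom_le_isAffineHom hf)) (isAffineMor_π D hDa hc i₀)
  obtain ⟨K, hK, hK', hKne, DX, tX, cX, hcX, eX, hX, hXa, hXt, hXf⟩ :=
    Groth.AlgSp2.Approx.exists_limit_affine (hD i₀) (hqc i₀) (hqs i₀) hfπ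
  obtain ⟨k, W₀, hW₀, ⟨eW⟩⟩ := exists_affine_of_limit hX hXa hcX
    (fun k => Groth.AlgSp2.Approx.isQuasiCompactSp_of_affineMor (hX k) (hXt k).1 (hD i₀) (hqc i₀))
    (fun k => Groth.AlgSp2.Approx.isQuasiSeparatedSp_of_affineMor (hX k) (hXt k).1 (hqs i₀)) T eX.symm
  let w₀ : (yon S).obj W₀ ⟶ D.obj i₀ := eW.hom ≫ tX.app k
  obtain ⟨l₀, hl₀⟩ := (yon S).map_surjective (eX.inv ≫ cX.π.app k ≫ eW.inv)
  have hl₀w : (yon S).map l₀ ≫ w₀ = f ≫ c.π.app i₀ := by
    rw [hl₀]
    simp only [w₀, Category.assoc, Iso.inv_hom_id_assoc]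
    exact hXf k
  have hw₀a : RepWith @IsAffineHom w₀ :=
    repWith_comp (repWith_isIso eW.hom) (isAffineMor_iff_repWith.1 (hXt k).1)
  -- a chart
  obtain ⟨V₀, b₀, hV₀, hbe, hbs⟩ := exists_affine_chart (hD i₀) (hqc i₀)
  obtain ⟨P⟩ := nonempty_pullSys D hDa hc i₀ b₀
  let A := P.affSys
  have : IsAffine P.L.pt.left := A.affPt
  obtain ⟨W₀', wv, a₀, sqW₀⟩ := hw₀a.rep b₀
  have : IsAffineHom wv.left := hw₀a.property b₀ a₀ wv sqW₀
  have : IsAffine W₀'.left := isAffine_of_isAffineHom wv.left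
  have : LocallyOfFiniteType wv.left := by
    have h1 : LocP @LocallyOfFinitePresentation w₀ :=
      locP_comp (IsAlgSpace.yon_obj W₀) (hX k) (hD i₀) (locP_of_repWith (repWith_mono (P := @IsOpenImmersion)
        (Q := @LocallyOfFinitePresentation)
        (fun _ _ g (_ : IsOpenImmersion g) => inferInstance) (repWith_isIso eW.hom)))
        (hXt k).2.1
    have h2 : LocallyOfFinitePresentation wv.left := prop_of_locP_yon
      (locP_of_isPullback (IsAlgSpace.yon_obj _) (hD i₀) (IsAlgSpace.yon_obj _) sqW₀ h1)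
    infer_instance
  -- the cover of the limit chart
  obtain ⟨T', tL, fT, sqT⟩ := hf.rep P.top
  have hTi : IsIntegralHom tL.left := hf.property P.top fT tL sqT
  have : IsAffine T'.left := isAffine_of_isAffineHom tL.left
  obtain ⟨tT, htT⟩ := (yon S).map_surjective fT
  subst htT
  obtain ⟨u₀, hu₀⟩ := (yon S).map_surjective (sqW₀.lift ((yon S).map (tT ≫ l₀))
    ((yon S).map (tL ≫ P.bot)) (by
      rw [Functor.map_comp, Category.assoc, hl₀w, ← Category.assoc, sqT.w, Category.assoc,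
        P.sqTop.w, ← Category.assoc, ← Functor.map_comp]))
  -- finitely many integral equations descend
  have hft : wv.left.appTop.hom.FiniteType :=
    (HasRingHomProperty.iff_of_isAffine (P := @LocallyOfFiniteType)).1 ‹_›
  let : Algebra Γ(V₀.left, ⊤) Γ(W₀'.left, ⊤) := wv.left.appTop.hom.toAlgebra
  obtain ⟨sgen, hsgen⟩ := (hft : Algebra.FiniteType _ _).out
  have hint : tL.left.appTop.hom.IsIntegral :=
    ((HasAffineProperty.iff_of_isAffine (P := @IsIntegralHom)).1 hTi).2
  choose Q hQm hQ using fun x : Γ(W₀'.left, ⊤) => hint (u₀.left.appTop.hom x)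
  let coefs : Finset Γ(P.L.pt.left, ⊤) :=
    sgen.biUnion fun x => (Finset.range ((Q x).natDegree + 1)).image (Q x).coeff
  choose st r hr using fun z : Γ(P.L.pt.left, ⊤) =>
    exists_appTop_π_eq_of_isAffine_of_isLimit (A.D ⋙ Over.forget S) ((Over.forget S).mapCone A.c)
      A.isLimit z
  obtain ⟨m, hm⟩ := IsCofiltered.inf_objs_exists (coefs.image st)
  have hrange : ∀ z ∈ coefs, z ∈ Set.range (P.L.π.app m).left.appTop.hom := fun z hz => by
    obtain ⟨φ⟩ := hm (Finset.mem_image_of_mem st hz)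
    refine ⟨(P.E.map φ).left.appTop.hom (r z), Eq.trans ?_ (hr z)⟩
    show ((P.E.map φ).left.appTop ≫ (P.L.π.app m).left.appTop).hom (r z) = _
    rw [← Scheme.Hom.comp_appTop, ← Over.comp_left, P.L.w φ]
    rfl
  have hlift : ∀ x ∈ sgen, Q x ∈ Polynomial.lifts (P.L.π.app m).left.appTop.hom := fun x hx => by
    rw [Polynomial.lifts_iff_coeff_lifts]
    intro n
    by_cases hn : n < (Q x).natDegree + 1
    · exact hrange _ (Finset.mem_biUnion.2 ⟨x, hx, Finset.mem_image_of_mem _ (Finset.mem_range.2 hn)⟩)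
    · exact ⟨0, by rw [map_zero, Polynomial.coeff_eq_zero_of_natDegree_lt (by omega)]⟩
  -- the stage
  obtain ⟨W, wD, wW, sqW⟩ := (isAffineMor_iff_repWith.1 (hDa _ _ m.hom)).rep w₀
  have : IsAffineHom wD.left :=
    (isAffineMor_iff_repWith.1 (hDa _ _ m.hom)).property w₀ wW wD sqW
  have : IsAffine W.left := isAffine_of_isAffineHom wD.left
  have hwW : RepWith @IsAffineHom wW := repWith_of_isPullback sqW.flip hw₀a
  obtain ⟨l, hl⟩ := (yon S).map_surjective (sqW.lift (f ≫ c.π.app m.left) ((yon S).map l₀) (by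
    rw [Category.assoc, c.w, hl₀w]))
  let M : Over S := subOver W l.left.ker
  let g : (yon S).obj M ⟶ D.obj m.left := (yon S).map (incl W l.left.ker) ≫ wW
  let h : T ⟶ M := Over.homMk l.left.toImage (by
    show l.left.toImage ≫ l.left.imageι ≫ W.hom = T.hom
    rw [Scheme.Hom.toImage_imageι_assoc, Over.w l])
  have hhl : h ≫ incl W l.left.ker = l := Over.OverMorphism.ext l.left.toImage_imageι
  refine ⟨m.left, M, g, h, isAffine_of_isAffineHom l.left.ker.subschemeι, ?_, ?_⟩
  swap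
  · simp only [g]
    rw [← Category.assoc, ← Functor.map_comp, hhl, hl, sqW.lift_fst]
  -- finiteness on the chart of the stage
  have hpe : RepWith @Etale (P.p m) := P.repWith_p hbe m
  have hps : RepWith @Surjective (P.p m) := P.repWith_p hbs m
  obtain ⟨W', bk, ak, sqW'⟩ := hwW.rep (P.p m)
  have : IsAffineHom bk.left := hwW.property (P.p m) ak bk sqW'
  have : IsAffine (P.E.obj m).left := A.aff m
  have : IsAffine W'.left := isAffine_of_isAffineHom bk.left
  obtain ⟨aW, haW⟩ := (yon S).map_surjective ak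
  subst haW
  have : Etale aW.left := (repWith_yon_map_iff @Etale aW).1 (repWith_of_isPullback sqW'.flip hpe)
  have sqTm : IsPullback ((yon S).map tT) ((yon S).map (tL ≫ P.L.π.app m)) (f ≫ c.π.app m.left)
      (P.p m) := by
    rw [Functor.map_comp]
    exact sqT.paste_vert (P.sq_π m)
  obtain ⟨u, hu⟩ := (yon S).map_surjective (sqW'.lift ((yon S).map (tT ≫ l))
    ((yon S).map (tL ≫ P.L.π.app m)) (by
      rw [Functor.map_comp, Category.assoc, hl, sqW.lift_fst]; exact sqTm.w))
  have hua : u ≫ aW = tT ≫ l := (yon S).map_injective (by rw [Functor.map_comp, hu, sqW'.lift_fst])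
  have hub : u ≫ bk = tL ≫ P.L.π.app m := (yon S).map_injective (by
    rw [Functor.map_comp, hu, sqW'.lift_snd])
  have sqTu : IsPullback ((yon S).map tT) ((yon S).map u) ((yon S).map l) ((yon S).map aW) := by
    refine IsPullback.of_bot ?_ (by rw [← Functor.map_comp, ← Functor.map_comp, hua]) sqW'
    rw [← Functor.map_comp, hub, hl, sqW.lift_fst]
    exact sqTm
  have sqTu' : IsPullback tT.left u.left l.left aW.left :=
    (IsPullback.of_map (yon S) hua.symm sqTu).map (Over.forget S)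
  have hker : u.left.ker = l.left.ker.comap aW.left := Groth.AlgSp3.ker_of_isPullback_of_flat sqTu'
  -- the chart of the stage over the chart of the base
  obtain ⟨a', ha'⟩ := (yon S).map_surjective (sqW₀.lift ((yon S).map (aW ≫ wD))
    ((yon S).map (bk ≫ P.q m)) (by
      rw [Functor.map_comp, Category.assoc, ← sqW.w, ← Category.assoc, sqW'.w, Category.assoc,
        (P.sq m).w, ← Category.assoc, ← Functor.map_comp]))
  have hbig : IsPullback ((yon S).map (aW ≫ wD)) ((yon S).map bk) w₀ ((yon S).map (P.q m) ≫ b₀) := by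
    rw [← (P.sq m).w, Functor.map_comp]
    exact sqW'.paste_horiz sqW.flip
  have sqa : IsPullback ((yon S).map a') ((yon S).map bk) ((yon S).map wv) ((yon S).map (P.q m)) :=
    IsPullback.of_right (by rw [ha', sqW₀.lift_fst]; exact hbig)
      (by rw [ha', sqW₀.lift_snd, Functor.map_comp]) sqW₀
  have wa : a' ≫ wv = bk ≫ P.q m := (yon S).map_injective (by
    rw [Functor.map_comp, Functor.map_comp]; exact sqa.w)
  have sqa' : IsPullback a'.left bk.left wv.left (P.q m).left :=
    (IsPullback.of_map (yon S) wa sqa).map (Over.forget S)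
  have hua' : u ≫ a' = u₀ := (yon S).map_injective (by
    apply sqW₀.hom_ext
    · rw [hu₀, sqW₀.lift_fst, Functor.map_comp, Category.assoc, ha', sqW₀.lift_fst,
        ← Functor.map_comp, ← Category.assoc, hua, Category.assoc]
      congr 2
      exact (yon S).map_injective (by rw [Functor.map_comp, hl, sqW.lift_snd])
    · rw [hu₀, sqW₀.lift_snd, ← Functor.map_comp, Category.assoc, wa,
        reassoc_of% hub, P.π_q])
  have hlftbk : LocallyOfFiniteType bk.left := MorphismProperty.of_isPullback sqa' ‹_›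
  have hfin : IsFinite (u.left.ker.subschemeι ≫ bk.left) := by
    refine isFinite_image u.left bk.left (isIntegralElem_of_isPullback sqa' u.left sgen hsgen
      fun x hx => ?_)
    obtain ⟨R, hR, -, hRm⟩ := Polynomial.lifts_and_natDegree_eq_and_monic (hlift x hx) (hQm x)
    refine ⟨R, hRm, ?_⟩
    rw [show u.left ≫ bk.left = (u ≫ bk).left from rfl, show u.left ≫ a'.left = (u ≫ a').left from rfl,
      hua', hub, Over.comp_left, Scheme.Hom.comp_appTop,
      CommRingCat.hom_comp, ← Polynomial.eval₂_map, hR]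
    exact hQ x
  -- descend finiteness along the chart
  obtain ⟨J, fJ, sqJ⟩ := exists_ideal (i := (yon S).map (incl W l.left.ker))
    ((repWith_yon_map_iff @IsClosedImmersion _).2 (inferInstanceAs (IsClosedImmersion l.left.ker.subschemeι)))
    ((yon S).map aW)
  have hJ : l.left.ker.comap aW.left = J := by
    refine comap_eq_of_isPullback (i := (yon S).map (incl W l.left.ker)) (a := 𝟙 _)
      (fI := 𝟙 _) (IsPullback.id_horiz _) sqJ aW ?_
    rw [Category.comp_id]
  have sqg : IsPullback fJ ((yon S).map (incl W' J ≫ bk)) g (P.p m) := by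
    rw [Functor.map_comp]
    exact sqJ.paste_vert sqW'
  refine repWith_of_affWith (Q := @IsFinite) (affWith_of_cover (hD _) hpe hps sqg
    (affWith_of_repWith (fun _ _ k (_ : IsFinite k) => (inferInstance : IsAffineHom k))
      ((repWith_yon_map_iff @IsFinite _).2 ?_)))
  show IsFinite (J.subschemeι ≫ bk.left)
  rw [← hJ, ← hker]
  exact hfin

end

end Groth.AlgSp2.Chevalley
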