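import Groth.Agent.AlgSp2.Chevalley.Noetherian
import Groth.Agent.AlgSp2.Chevalley.FiniteModel
import Groth.Agent.AlgSp2.Absolute.AbsApprox
import Groth.Agent.AlgSp2.CancelSep
import Groth.Agent.AlgSpBasic.ClosedQC
import Groth.Agent.AlgSp3.Shriek
import Mathlib.AlgebraicGeometry.Noetherian

/-!
# Chevalley's theorem for algebraic spaces
-/

set_option autoImplicit false
set_option linter.unusedSectionVars false
set_option backward.isDefEq.respectTransparency.types false
universe u

open CategoryTheory CategoryTheory.Limits AlgebraicGeometry Opposite AlgSp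
open Groth.AlgSpBasic Groth.AlgSp2 Groth.AlgSp2.Absolute Groth.SpLimit

namespace Groth.AlgSp2.Chevalley

noncomputable section

variable {S : Scheme.{u}}

theorem isUnivClosedMor_of_repWith {X Y : Sp S} {f : X ⟶ Y} (h : RepWith @UniversallyClosed f) :
    IsUnivClosedMor f := (repWith_universallyClosed_iff h.rep).1 h

/-- Chevalley's theorem over an affine Noetherian base. -/
theorem exists_iso_affine_base [IsAffine S] [IsLocallyNoetherian S] {Y : Sp S} (hY : IsAlgSpace Y)
    {T : Over S} [IsAffine T.left] {f : (yon S).obj T ⟶ Y} (hfs : RepWith @Surjective f)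
    (hfu : RepWith @UniversallyClosed f) :
    ∃ T' : Over S, IsAffine T'.left ∧ Nonempty ((yon S).obj T' ≅ Y) := by
  classical
  let Tt : Over S := Over.mk (𝟙 S)
  have : IsAffine Tt.left := ‹IsAffine S›
  let ht : IsTerminal ((yon S).obj Tt) := IsTerminal.isTerminalObj (yon S) _ Over.mkIdTerminal
  have hTt : IsAlgSpace ((yon S).obj Tt) := IsAlgSpace.yon_obj _
  -- the source is affine and separated over the base
  have hsepT : ∀ (A : Over S) [IsAffine A.left] (k : (yon S).obj A ⟶ (yon S).obj Tt),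
      IsSeparatedMor k ∧ RepWith @IsAffineHom k := by
    intro A _ k
    obtain ⟨l, rfl⟩ := (yon S).map_surjective k
    have : IsAffineHom l.left := isAffineHom_of_isAffine l.left
    exact ⟨(repWith_isSeparated_iff (representable_yon_map l)).2
      ((repWith_yon_map_iff @IsSeparated l).2 inferInstance),
      (repWith_yon_map_iff @IsAffineHom l).2 ‹_›⟩
  have hsurj : IsSurjectiveMor f := surjective_map_of_repWith hfs
  let q : Y ⟶ (yon S).obj Tt := ht.from Y
  have hsepY : IsSeparatedMor q := isSeparatedMor_of_surjective (IsAlgSpace.yon_obj T) hY hTt hsurj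
    (isUnivClosedMor_of_repWith hfu) (hsepT T _).1
  have hYqc : IsQuasiCompactSp Y := by
    refine (isQuasiCompactSp_iff_compactSpace hY).2 ⟨?_⟩
    have : CompactSpace (AlgSp.Points ((yon S).obj T)) := (AlgSp.Points.schemeHomeo T).compactSpace
    rw [← Set.range_eq_univ.2 hsurj]
    exact isCompact_range (AlgSp.Points.continuous_map f)
  have hYqs : IsQuasiSeparatedSp Y :=
    isQuasiSeparatedSp_of_sepMor hsepY (isQuasiSeparatedSp_yon_affine _)
  -- the morphism is integral
  obtain ⟨P₀, Γf, p₁, p₂, -, hΓ, sqΓ, hΓe⟩ :=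
    exists_factor_of_separated (IsAlgSpace.yon_obj T) hY hTt f hsepY
  have hfa : RepWith @IsAffineHom f := by
    rw [← hΓe]
    exact repWith_comp (repWith_mono (fun _ _ k (_ : IsClosedImmersion k) =>
      (inferInstance : IsAffineHom k)) hΓ) (repWith_of_isPullback sqΓ (hsepT T _).2)
  have hfi : RepWith @IsIntegralHom f := repWith_of_representable hfa.rep fun U V b fst snd sq =>
    IsIntegralHom.iff_universallyClosed_and_isAffineHom.2
      ⟨hfu.property b fst snd sq, hfa.property b fst snd sq⟩
  -- a model of finite type over the base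
  obtain ⟨Y₁, a, hY₁, hY₁qc, hY₁qs, hY₁lfp, ha⟩ := hasModel hY hYqc hYqs
  obtain ⟨I, hI, hI', hIne, D, t, c, hc, e, hD, hDa, hDt, -⟩ :=
    Groth.AlgSp2.Approx.exists_limit_affine hY₁ hY₁qc hY₁qs ha
  have hqc : ∀ i, IsQuasiCompactSp (D.obj i) := fun i =>
    Groth.AlgSp2.Approx.isQuasiCompactSp_of_affineMor (hD i) (hDt i).1 hY₁ hY₁qc
  have hqs : ∀ i, IsQuasiSeparatedSp (D.obj i) := fun i =>
    Groth.AlgSp2.Approx.isQuasiSeparatedSp_of_affineMor (hD i) (hDt i).1 hY₁qs
  obtain ⟨i, M, g, h, hM, hg, hhg⟩ := exists_finite_model hD hDa hc hqc hqs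
    (f := f ≫ e.inv) (repWith_comp hfi (repWith_isIso e.inv))
  have hlft : LocP @LocallyOfFiniteType (t.app i ≫ ht.from Y₁) :=
    locP_comp (hD i) hY₁ hTt
      (locP_mono (P := @LocallyOfFinitePresentation) (fun _ _ k (_ : LocallyOfFinitePresentation k) =>
        (inferInstance : LocallyOfFiniteType k)) (hDt i).2.1)
      (locP_mono (P := @LocallyOfFinitePresentation) (fun _ _ k (_ : LocallyOfFinitePresentation k) =>
        (inferInstance : LocallyOfFiniteType k)) (hY₁lfp _))
  -- the image
  have hcl : IsClosedMap (AlgSp.Points.map g) := isClosedMap_map_of_repWith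
    (fun _ _ φ (_ : IsFinite φ) => φ.isClosedMap) hg
  obtain ⟨Y', j, hY', hj, hrange, -⟩ :=
    Groth.AlgSp3.exists_isRedInduced (hD i) hcl.isClosed_range
  obtain ⟨M', mj, g', sqM⟩ := hj.rep g
  have : IsClosedImmersion mj.left := hj.property g g' mj sqM
  have : IsAffine M'.left := isAffine_of_isAffineHom mj.left
  have hg' : RepWith @IsFinite g' := repWith_of_isPullback sqM.flip hg
  have hg's : RepWith @Surjective g' := repWith_surjective_of_points hg'.rep fun y => by
    obtain ⟨z, hz⟩ := hrange.le ⟨y, rfl⟩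
    obtain ⟨w, hw, -⟩ := Groth.AlgSpBasic.exists_point_of_isPullback sqM y z hz.symm
    exact ⟨w, hw⟩
  let q' : Y' ⟶ (yon S).obj Tt := j ≫ t.app i ≫ ht.from Y₁
  have hsep' : IsSeparatedMor q' := isSeparatedMor_of_surjective (IsAlgSpace.yon_obj M') hY' hTt
    (surjective_map_of_repWith hg's)
    (isUnivClosedMor_of_repWith (repWith_mono (fun _ _ k (_ : IsFinite k) =>
      (inferInstance : UniversallyClosed k)) hg')) (hsepT M' _).1
  have hqc' : IsQuasiCompactSp Y' := Groth.AlgSp2.Approx.isQuasiCompactSp_of_affineMor hY'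
    (isAffineMor_iff_repWith.2 (repWith_mono (fun _ _ k (_ : IsClosedImmersion k) =>
      (inferInstance : IsAffineHom k)) hj)) (hD i) (hqc i)
  have hlft' : LocP @LocallyOfFiniteType q' := locP_comp hY' (hD i) hTt
    (locP_of_repWith (repWith_mono (fun _ _ k (_ : IsClosedImmersion k) =>
      (inferInstance : LocallyOfFiniteType k)) hj)) hlft
  obtain ⟨T', hT', ⟨eT⟩⟩ := exists_iso_affine_noetherian hY' hqc' hsep' hlft' hg' hg's
  -- pull the affine image back
  let π : Y ⟶ D.obj i := e.inv ≫ c.π.app i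
  have hπ : RepWith @IsAffineHom π :=
    repWith_comp (repWith_isIso e.inv) (isAffineMor_iff_repWith.1 (isAffineMor_π D hDa hc i))
  obtain ⟨P', p', pf, sqP⟩ := hπ.rep (eT.hom ≫ j)
  have : IsAffineHom p'.left := hπ.property _ pf p' sqP
  have : IsAffine P'.left := isAffine_of_isAffineHom p'.left
  have hpfc : RepWith @IsClosedImmersion pf :=
    repWith_of_isPullback sqP.flip (repWith_comp (repWith_isIso eT.hom) hj)
  have hpfs : RepWith @Surjective pf := repWith_surjective_of_points hpfc.rep fun y => by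
    obtain ⟨x, hx⟩ := hsurj y
    obtain ⟨z, hz⟩ := hrange.ge ⟨AlgSp.Points.map ((yon S).map h) x, rfl⟩
    obtain ⟨w, hw, -⟩ := Groth.AlgSpBasic.exists_point_of_isPullback sqP y
      (AlgSp.Points.map eT.inv z) (by
        rw [← AlgSp.Points.map_comp, Iso.inv_hom_id_assoc, hz, ← AlgSp.Points.map_comp, hhg, ← hx,
          ← AlgSp.Points.map_comp]
        congr 1)
    exact ⟨w, hw⟩
  obtain ⟨T'', ⟨e''⟩⟩ := Groth.AlgSpThick.exists_iso_yon_of_thick hY
    (i := pf) (repWith_of_representable hpfc.rep fun U V b fst snd sq =>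
      ⟨hpfc.property b fst snd sq, hpfs.property b fst snd sq⟩)
  obtain ⟨k, hk⟩ := (yon S).map_surjective (pf ≫ e''.inv)
  have : IsClosedImmersion k.left := (repWith_yon_map_iff @IsClosedImmersion k).1 (by
    rw [hk]; exact repWith_comp hpfc (repWith_isIso _))
  have : Surjective k.left := (repWith_yon_map_iff @Surjective k).1 (by
    rw [hk]; exact repWith_comp hpfs (repWith_isIso _))
  exact ⟨T'', Groth.FlatMor2.Chevalley.isAffine_of_universallyClosed_surjective k.left, ⟨e''⟩⟩

/-- Chevalley's theorem: a space with a universally closed surjection from an affine scheme is an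
affine scheme. -/
theorem exists_iso_affine {Y : Sp S} (hY : IsAlgSpace Y) {T : Over S} [IsAffine T.left]
    {f : (yon S).obj T ⟶ Y} (hsurj : IsSurjectiveMor f) (huc : IsUnivClosedMor f) :
    ∃ T' : Over S, IsAffine T'.left ∧ Nonempty ((yon S).obj T' ≅ Y) := by
  let S' : Scheme.{u} := Spec (CommRingCat.of (ULift.{u} ℤ))
  let γ : S ⟶ S' := specULiftZIsTerminal.from S
  have : IsNoetherianRing (ULift.{u} ℤ) := isNoetherianRing_of_ringEquiv ℤ ULift.ringEquiv.symm
  have hr : Representable f := representable_of_diag hY.diag f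
  have hfs : RepWith @Surjective f := repWith_surjective_of_points hr hsurj
  have hfu : RepWith @UniversallyClosed f := (repWith_universallyClosed_iff hr).2 huc
  let F := (Groth.AlgSp3.shriekYonIso γ T).inv ≫ (Groth.AlgSp3.shriek γ).map f
  have : IsAffine ((Over.map γ).obj T).left := ‹IsAffine T.left›
  obtain ⟨T', hT', ⟨b⟩⟩ := exists_iso_affine_base ((Groth.AlgSp3.isAlgSpace_shriek_iff γ Y).2 hY)
    (f := F) (repWith_comp (repWith_isIso _) (Groth.AlgSp3.repWith_shriek_map γ hfs))
    (repWith_comp (repWith_isIso _) (Groth.AlgSp3.repWith_shriek_map γ hfu))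
  obtain ⟨A, e, s, hs⟩ := Groth.AlgSp3.exists_shriek_lift γ b.hom
  have hs' : (Groth.AlgSp3.shriek γ).map s =
      (Groth.AlgSp3.shriekYonIso γ A).hom ≫ (yon S').map e.hom ≫ b.hom := by
    rw [hs, Iso.hom_inv_id_assoc]
  have : IsIso ((Groth.AlgSp3.shriek γ).map s) := by rw [hs']; infer_instance
  have : IsIso s := Groth.AlgSp3.isIso_of_isIso_shriek γ s
  have : IsIso e.hom.left := inferInstanceAs (IsIso ((Over.forget S').map e.hom))
  exact ⟨A, IsAffine.of_isIso (e.hom.left : A.left ⟶ T'.left), ⟨asIso s⟩⟩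

end

end Groth.AlgSp2.Chevalley
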