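import Groth.Agent.AlgSp2.Chevalley.Core
import Groth.Agent.AlgSp2.Approx.MinimalNonScheme
import Groth.Agent.AlgSp2.Absolute.ClosedApprox
import Groth.Agent.AlgSpThick.Scheme
import Groth.Agent.SpLimit.SpaceLiftIff
import Groth.Agent.AlgSpCartier.ClosedSubProps

/-!
# Chevalley's theorem for spaces of finite type over a Noetherian affine base
-/

set_option autoImplicit false
set_option linter.unusedSectionVars false
set_option backward.isDefEq.respectTransparency.types false
universe u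

open CategoryTheory CategoryTheory.Limits AlgebraicGeometry Opposite AlgSp
open Groth.AlgSpBasic Groth.AlgSp2 Groth.AlgSp2.Absolute Groth.SpLimit

namespace Groth.AlgSp2.Chevalley

noncomputable section

variable {S : Scheme.{u}}

theorem isIso_imp_range_univ {A B : Sp S} (i : A ⟶ B) [IsIso i] :
    Set.range (AlgSp.Points.map i) = Set.univ := Set.eq_univ_of_forall fun z =>
  ⟨AlgSp.Points.map (inv i) z, by rw [← AlgSp.Points.map_comp, IsIso.inv_hom_id, AlgSp.Points.map_id]⟩

/-- A separated space of finite type over a Noetherian affine base with a finite surjection from an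
affine scheme is a scheme. -/
theorem isRepresentable_noetherian [IsAffine S] [IsLocallyNoetherian S] {Z : Sp S} (hZ : IsAlgSpace Z)
    (hqc : IsQuasiCompactSp Z) {q₀ : Z ⟶ (yon S).obj (Over.mk (𝟙 S))} (hsep : IsSeparatedMor q₀)
    (hlft : LocP @LocallyOfFiniteType q₀) {W : Over S} [IsAffine W.left] {g : (yon S).obj W ⟶ Z}
    (hg : RepWith @IsFinite g) (hgs : RepWith @Surjective g) : Z.obj.IsRepresentable := by
  by_contra hnr
  have : IsAffine (Over.mk (𝟙 S)).left := ‹IsAffine S›
  have hqs : IsQuasiSeparatedSp Z :=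
    isQuasiSeparatedSp_of_sepMor hsep (isQuasiSeparatedSp_yon_affine _)
  obtain ⟨Z₁, i, hZ₁, hi, hnr₁, hmin⟩ :=
    Groth.AlgSp2.Approx.exists_minimal_nonscheme hZ hqc hqs hnr
  have hqc₁ : IsQuasiCompactSp Z₁ := Groth.AlgSp2.Approx.isQuasiCompactSp_of_affineMor hZ₁
    (isAffineMor_iff_repWith.2 (repWith_mono (fun _ _ k (_ : IsClosedImmersion k) =>
      (inferInstance : IsAffineHom k)) hi)) hZ hqc
  have hsep₁ : IsSeparatedMor (i ≫ q₀) := repWith_diagonal_comp
    ((repWith_isSeparated_iff hi.rep).2 (repWith_mono (fun _ _ k (_ : IsClosedImmersion k) =>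
      (inferInstance : IsSeparated k)) hi)) hsep
  have hlft₁ : LocP @LocallyOfFiniteType (i ≫ q₀) :=
    locP_comp hZ₁ hZ (IsAlgSpace.yon_obj _) (locP_of_repWith (repWith_mono
      (fun _ _ k (_ : IsClosedImmersion k) => (inferInstance : LocallyOfFiniteType k)) hi)) hlft
  obtain ⟨W₁, w, g₁, sq⟩ := hi.rep g
  have : IsClosedImmersion w.left := hi.property g g₁ w sq
  have : IsAffine W₁.left := isAffine_of_isAffineHom w.left
  have hr : IsReducedSp Z₁ := by
    obtain ⟨Y, j, hY, hj, hrange, hYr⟩ := Groth.AlgSp3.exists_isRedInduced hZ₁ isClosed_univ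
    by_cases hji : IsIso j
    · exact Groth.AlgSpCartier.isReducedSp_of_iso (asIso j) hYr
    · exfalso
      obtain ⟨T, ⟨r⟩⟩ := hmin Y j hj hji
      let e := isoOfRepresentableBy r
      have hjs : RepWith @Surjective j := repWith_surjective_of_points hj.rep fun y => by
        obtain ⟨x, hx⟩ := hrange.ge (Set.mem_univ y)
        exact ⟨x, hx⟩
      have ht : IsThickMor (e.hom ≫ j) := by
        refine repWith_of_representable ?_ fun U V a fst snd sq => ⟨?_, ?_⟩
        · exact (repWith_comp (repWith_isIso e.hom) hj).rep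
        · exact (repWith_comp (repWith_isIso e.hom) hj).property a fst snd sq
        · exact (repWith_comp (repWith_isIso e.hom) hjs).property a fst snd sq
      obtain ⟨T', ⟨e'⟩⟩ := Groth.AlgSpThick.exists_iso_yon_of_thick hZ₁ ht
      exact hnr₁ (isRepresentable_of_iso e')
  refine hnr₁ (isRepresentable_of_minimal hZ₁ hqc₁ hsep₁ hlft₁ hr
    (repWith_of_isPullback sq.flip hg) (repWith_of_isPullback sq.flip hgs) ?_ hmin)
  intro O₁ O₂ ho₁ ho₂ hne₁ hne₂
  by_contra hd
  obtain ⟨A, a, hA, ha, hra, -⟩ := Groth.AlgSp3.exists_isRedInduced hZ₁ ho₁.isClosed_compl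
  obtain ⟨B, b, hB, hb, hrb, -⟩ := Groth.AlgSp3.exists_isRedInduced hZ₁ ho₂.isClosed_compl
  obtain ⟨TA, ⟨rA⟩⟩ := hmin A a ha fun h => by
    obtain ⟨x, hx⟩ := hne₁
    exact (hra.le ((isIso_imp_range_univ a).ge (Set.mem_univ x))) hx
  obtain ⟨TB, ⟨rB⟩⟩ := hmin B b hb fun h => by
    obtain ⟨x, hx⟩ := hne₂
    exact (hrb.le ((isIso_imp_range_univ b).ge (Set.mem_univ x))) hx
  have hiso : ∀ {F : Sp S} {T : Over S} (e : (yon S).obj T ≅ F),
      Function.Surjective (AlgSp.Points.map e.hom) := fun e x =>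
    ⟨AlgSp.Points.map e.inv x, by
      rw [← AlgSp.Points.map_comp, e.inv_hom_id, AlgSp.Points.map_id]⟩
  refine hnr₁ (Groth.AlgSp2.Approx.isRepresentable_of_union hZ₁ hqc₁ hr
    (a₀ := (isoOfRepresentableBy rA).hom ≫ a) (b₀ := (isoOfRepresentableBy rB).hom ≫ b)
    (repWith_comp (repWith_isIso _) ha) (repWith_comp (repWith_isIso _) hb) fun x => ?_)
  by_cases hx : x ∈ O₁
  · have hx₂ : x ∉ O₂ := fun h => hd ⟨x, hx, h⟩
    obtain ⟨z, hz⟩ := hrb.ge hx₂
    obtain ⟨z', rfl⟩ := hiso (isoOfRepresentableBy rB) z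
    exact Or.inr ⟨z', by rw [AlgSp.Points.map_comp]; exact hz⟩
  · obtain ⟨z, hz⟩ := hra.ge hx
    obtain ⟨z', rfl⟩ := hiso (isoOfRepresentableBy rA) z
    exact Or.inl ⟨z', by rw [AlgSp.Points.map_comp]; exact hz⟩

/-- Chevalley's theorem over a Noetherian affine base. -/
theorem exists_iso_affine_noetherian [IsAffine S] [IsLocallyNoetherian S] {Z : Sp S} (hZ : IsAlgSpace Z)
    (hqc : IsQuasiCompactSp Z) {q₀ : Z ⟶ (yon S).obj (Over.mk (𝟙 S))} (hsep : IsSeparatedMor q₀)
    (hlft : LocP @LocallyOfFiniteType q₀) {W : Over S} [IsAffine W.left] {g : (yon S).obj W ⟶ Z}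
    (hg : RepWith @IsFinite g) (hgs : RepWith @Surjective g) :
    ∃ T : Over S, IsAffine T.left ∧ Nonempty ((yon S).obj T ≅ Z) := by
  obtain ⟨T, ⟨r⟩⟩ := isRepresentable_noetherian hZ hqc hsep hlft hg hgs
  let e := isoOfRepresentableBy r
  obtain ⟨h, hh⟩ := (yon S).map_surjective (g ≫ e.inv)
  have : IsFinite h.left := (repWith_yon_map_iff @IsFinite h).1 (by
    rw [hh]; exact repWith_comp hg (repWith_isIso _))
  have : Surjective h.left := (repWith_yon_map_iff @Surjective h).1 (by
    rw [hh]; exact repWith_comp hgs (repWith_isIso _))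
  exact ⟨T, Groth.FlatMor2.Chevalley.isAffine_of_universallyClosed_surjective h.left, ⟨e⟩⟩

end

end Groth.AlgSp2.Chevalley
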