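import Mathlib.RingTheory.Norm.Basic
import Mathlib.RingTheory.IsTensorProduct
import Mathlib.RingTheory.TensorProduct.Free
import Mathlib.RingTheory.Localization.FractionRing
import Mathlib.RingTheory.Localization.Integer
import Mathlib.RingTheory.Finiteness.Basic
import Mathlib.LinearAlgebra.Dimension.Constructions

/-!
# Norms in finite algebras over total rings of fractions
-/

set_option autoImplicit false

universe u

open TensorProduct Matrix

namespace Groth.AlgSp2.Chevalley

noncomputable section

/-- Norms commute with base change of free algebras. -/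
theorem norm_baseChange {K F L ι : Type*} [CommRing K] [CommRing F] [CommRing L] [Algebra K F]
    [Algebra K L] [Fintype ι] (bas : Module.Basis ι K L) (y : L) :
    Algebra.norm F ((1 : F) ⊗ₜ[K] y) = algebraMap K F (Algebra.norm K y) := by
  classical
  rw [Algebra.norm_eq_matrix_det (bas.baseChange F), Algebra.norm_eq_matrix_det bas,
    RingHom.map_det, RingHom.mapMatrix_apply]
  refine congrArg Matrix.det (Matrix.ext fun i j => ?_)
  rw [Matrix.map_apply, Algebra.leftMulMatrix_eq_repr_mul, Algebra.leftMulMatrix_eq_repr_mul,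
    Module.Basis.baseChange_apply, Algebra.TensorProduct.tmul_mul_tmul, mul_one,
    Module.Basis.baseChange_repr_tmul, Algebra.algebraMap_eq_smul_one]

section Pushout

variable (A B C P F : Type u) [CommRing A] [CommRing B] [CommRing C] [CommRing P] [CommRing F]
  [Algebra A B] [Algebra A C] [Algebra C P] [Algebra B P] [Algebra A P] [IsScalarTower A C P]
  [IsScalarTower A B P] [Algebra.IsPushout A C B P] [Algebra C F] [Algebra A F]
  [IsScalarTower A C F]

/-- The fibre of a pushout. -/
def chg : F ⊗[C] P ≃ₐ[F] F ⊗[A] B :=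
  (Algebra.TensorProduct.congr (AlgEquiv.refl : F ≃ₐ[F] F)
    (Algebra.IsPushout.equiv A C B P).symm).trans
    (Algebra.TensorProduct.cancelBaseChange A C F F B)

theorem chg_tmul (x : B) :
    chg A B C P F ((1 : F) ⊗ₜ[C] algebraMap B P x) = (1 : F) ⊗ₜ[A] x := by
  simp [chg, Algebra.IsPushout.equiv_symm_algebraMap_right]

variable (K : Type u) [CommRing K] [Algebra A K] [Algebra K F] [IsScalarTower A K F]

/-- The norm of the fibre of a pushout comes from the base. -/
theorem norm_pushout {ι : Type u} [Fintype ι] (bas : Module.Basis ι K (K ⊗[A] B)) (x : B) :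
    Algebra.norm F ((1 : F) ⊗ₜ[C] algebraMap B P x) =
      algebraMap K F (Algebra.norm K ((1 : K) ⊗ₜ[A] x)) := by
  rw [← Algebra.norm_eq_of_algEquiv (chg A B C P F), chg_tmul,
    ← Algebra.norm_eq_of_algEquiv (Algebra.TensorProduct.cancelBaseChange A K F F B).symm,
    Algebra.TensorProduct.cancelBaseChange_symm_tmul]
  exact norm_baseChange bas _

/-- The rank of the fibre of a pushout comes from the base. -/
theorem finrank_pushout {F' K' : Type u} [Field F'] [Field K'] [Algebra C F'] [Algebra A F']
    [IsScalarTower A C F'] [Algebra A K'] [Algebra K' F'] [IsScalarTower A K' F'] :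
    Module.finrank F' (F' ⊗[C] P) = Module.finrank K' (K' ⊗[A] B) := by
  rw [(chg A B C P F').toLinearEquiv.finrank_eq,
    ← (Algebra.TensorProduct.cancelBaseChange A K' F' F' B).toLinearEquiv.finrank_eq,
    Module.finrank_baseChange]

end Pushout

section Matrix

variable {A B K L ι : Type*} [CommRing A] [CommRing B] [CommRing K] [CommRing L] [Algebra A K]
  [Algebra K L] [Fintype ι] [DecidableEq ι] (bas : Module.Basis ι K L) (φ : A →+* B) (ψ : B →+* L)

/-- The matrices of multiplication by elements of a finite algebra have bounded denominators. -/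
theorem exists_matrix_den [IsFractionRing A K] (hfin : φ.Finite)
    (hcomp : ∀ a, ψ (φ a) = algebraMap K L (algebraMap A K a)) :
    ∃ s ∈ nonZeroDivisors A, ∀ (b : B) (i j : ι), ∃ a : A,
      algebraMap A K a = algebraMap A K s * Algebra.leftMulMatrix bas (ψ b) i j := by
  classical
  algebraize [φ]
  obtain ⟨t, ht⟩ := (inferInstance : Module.Finite A B).fg_top
  obtain ⟨s, hs⟩ := IsLocalization.exist_integer_multiples_of_finset (nonZeroDivisors A)
    ((t ×ˢ (Finset.univ : Finset (ι × ι))).image fun p : B × ι × ι =>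
      Algebra.leftMulMatrix bas (ψ p.1) p.2.1 p.2.2)
  refine ⟨s, s.2, fun b i j => ?_⟩
  have hb : b ∈ Submodule.span A (t : Set B) := ht ▸ Submodule.mem_top
  induction hb using Submodule.span_induction with
  | mem x hx =>
    obtain ⟨a, ha⟩ := hs _ (Finset.mem_image.mpr
      ⟨(x, i, j), Finset.mem_product.mpr ⟨hx, Finset.mem_univ _⟩, rfl⟩)
    exact ⟨a, ha.trans (Algebra.smul_def _ _)⟩
  | zero => exact ⟨0, by simp⟩
  | add x y _ _ hx hy =>
    obtain ⟨a, ha⟩ := hx
    obtain ⟨c, hc⟩ := hy
    exact ⟨a + c, by rw [map_add, ha, hc, map_add, map_add, Matrix.add_apply, mul_add]⟩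
  | smul r x _ hx =>
    obtain ⟨a, ha⟩ := hx
    refine ⟨r * a, ?_⟩
    rw [Algebra.smul_def r x, map_mul ψ, show ψ (algebraMap A B r) = _ from hcomp r,
      map_mul (Algebra.leftMulMatrix bas), AlgHom.commutes, ← Algebra.smul_def (algebraMap A K r)
        (Algebra.leftMulMatrix bas (ψ x)), Matrix.smul_apply, map_mul, ha, smul_eq_mul]
    ring

/-- Norms of elements congruent to an element of the base modulo a small ideal lie in the base. -/
theorem exists_norm_sub_mem (hcomp : ∀ a, ψ (φ a) = algebraMap K L (algebraMap A K a)) {s : A}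
    (hs : ∀ (b : B) (i j : ι), ∃ a : A,
      algebraMap A K a = algebraMap A K s * Algebra.leftMulMatrix bas (ψ b) i j)
    (J : Ideal A) (k : ℕ) (hJ : J ^ k ≤ Ideal.span {s}) (a : A) (ε : B)
    (hε : ε ∈ (J ^ (k + 1)).map φ) :
    ∃ h : A, algebraMap A K h = Algebra.norm K (ψ (φ a + ε)) ∧ h - a ^ Fintype.card ι ∈ J := by
  classical
  suffices ∀ b : B, ∃ N : Matrix ι ι A, (∀ i j, N i j ∈ J) ∧
      N.map (algebraMap A K) = Algebra.leftMulMatrix bas (ψ (b * ε)) by
    obtain ⟨N, hNJ, hN⟩ := this 1
    refine ⟨(a • (1 : Matrix ι ι A) + N).det, ?_, ?_⟩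
    · rw [Algebra.norm_eq_matrix_det bas, RingHom.map_det]
      congr 1
      rw [map_add ψ, map_add (Algebra.leftMulMatrix bas), hcomp, AlgHom.commutes, ← one_mul ε, ← hN]
      ext i j
      simp [Matrix.algebraMap_matrix_apply, Matrix.one_apply, apply_ite (algebraMap A K)]
    · rw [← Ideal.Quotient.eq, map_pow, RingHom.map_det]
      have : (Ideal.Quotient.mk J).mapMatrix (a • (1 : Matrix ι ι A) + N) =
          Ideal.Quotient.mk J a • (1 : Matrix ι ι (A ⧸ J)) := by
        ext i j
        simp [Matrix.one_apply, apply_ite (Ideal.Quotient.mk J),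
          Ideal.Quotient.eq_zero_iff_mem.mpr (hNJ i j)]
      rw [this, Matrix.det_smul, Matrix.det_one, mul_one]
  rw [Ideal.map] at hε
  induction hε using Submodule.span_induction with
  | mem x hx =>
    obtain ⟨i₀, hi₀, rfl⟩ := hx
    have : i₀ ∈ Ideal.span {s} * J := Ideal.mul_mono_left hJ (pow_succ J k ▸ hi₀)
    obtain ⟨c, hc, rfl⟩ := Ideal.mem_span_singleton_mul.mp this
    intro b
    choose e he using hs b
    refine ⟨Matrix.of fun i j => c * e i j, fun i j => J.mul_mem_right _ hc, ?_⟩
    ext i j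
    rw [mul_comm b, map_mul ψ, hcomp, ← Algebra.smul_def, map_smul, Matrix.smul_apply,
      Matrix.map_apply, Matrix.of_apply, map_mul, he, map_mul, smul_eq_mul]
    ring
  | zero => exact fun b => ⟨0, fun _ _ => J.zero_mem, by simp⟩
  | add x y _ _ hx hy =>
    intro b
    obtain ⟨N, hN, hN'⟩ := hx b
    obtain ⟨M, hM, hM'⟩ := hy b
    refine ⟨N + M, fun i j => J.add_mem (hN i j) (hM i j), ?_⟩
    rw [Matrix.map_add _ (fun _ _ => map_add _ _ _), hN', hM', mul_add, map_add ψ, map_add]
  | smul r x _ hx =>
    intro b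
    obtain ⟨N, hN, hN'⟩ := hx (b * r)
    exact ⟨N, hN, by rw [hN', smul_eq_mul, mul_assoc]⟩

end Matrix

end

end Groth.AlgSp2.Chevalley
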