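import Groth.Agent.AlgSp2.Chevalley.NormBC
import Mathlib.Algebra.Category.Ring.Constructions
import Mathlib.RingTheory.Ideal.GoingDown
import Mathlib.RingTheory.Flat.TorsionFree
import Mathlib.RingTheory.HopkinsLevitzki
import Mathlib.RingTheory.LocalRing.Module
import Mathlib.RingTheory.LocalProperties.Reduced
import Mathlib.RingTheory.Ideal.MinimalPrime.Noetherian
import Mathlib.RingTheory.Artinian.Module
import Mathlib.RingTheory.RingHom.Flat
import Mathlib.RingTheory.SimpleModule.InjectiveProjective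

/-!
# Invariant functions from norms
-/

set_option autoImplicit false

universe u

open TensorProduct CategoryTheory

namespace Groth.AlgSp2.Chevalley

noncomputable section

theorem mem_nonZeroDivisors_iff_minimalPrimes {A : Type u} [CommRing A] [IsReduced A] {x : A} :
    x ∈ nonZeroDivisors A ↔ ∀ p ∈ minimalPrimes A, x ∉ p := by
  refine ⟨fun h p hp hx => notMem_nonZeroDivisors_of_mem_mem_minimalPrimes hx hp h, fun h => ?_⟩
  rw [mem_nonZeroDivisors_iff_right]
  intro y hy
  have : y ∈ sInf (⊥ : Ideal A).minimalPrimes := Ideal.mem_sInf.2 fun {p} hp =>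
    (hp.isPrime.mem_or_mem (hy ▸ p.zero_mem)).resolve_right (h p hp)
  rwa [Ideal.sInf_minimalPrimes, show (⊥ : Ideal A).radical = ⊥ from nilradical_eq_zero A] at this

theorem exists_nonZeroDivisor_mem {A : Type u} [CommRing A] [IsNoetherianRing A] [IsReduced A]
    {I : Ideal A} (h : ∀ p ∈ minimalPrimes A, ¬ I ≤ p) : ∃ a ∈ I, a ∈ nonZeroDivisors A := by
  classical
  by_contra hc
  push Not at hc
  have hf := minimalPrimes.finite_of_isNoetherianRing (R := A)
  have hs : (I : Set A) ⊆ ⋃ p ∈ (↑hf.toFinset : Set (Ideal A)), (p : Set A) := by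
    intro a ha
    have := hc a ha
    rw [mem_nonZeroDivisors_iff_minimalPrimes] at this
    push Not at this
    obtain ⟨p, hp, hap⟩ := this
    exact Set.mem_biUnion (hf.mem_toFinset.2 hp) hap
  obtain ⟨p, hp, hle⟩ := (Ideal.subset_union_prime (f := id) ⊥ ⊥
    fun p hp _ _ => (hf.mem_toFinset.1 hp).isPrime).1 hs
  exact h p (hf.mem_toFinset.1 hp) hle

/-- The total ring of fractions of a reduced Noetherian ring is semisimple. -/
theorem isArtinianRing_fractionRing (A : Type u) [CommRing A] [IsNoetherianRing A] [IsReduced A] :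
    IsArtinianRing (FractionRing A) := by
  have : IsNoetherianRing (FractionRing A) := IsLocalization.isNoetherianRing (nonZeroDivisors A) _ ‹_›
  rw [isArtinianRing_iff_isNoetherianRing_krullDimLE_zero]
  refine ⟨‹_›, Ring.krullDimLE_zero_iff.2 fun P hP => ?_⟩
  obtain ⟨M, hM, hPM⟩ := Ideal.exists_le_maximal P hP.ne_top
  have h := fun (Q : Ideal (FractionRing A)) (hQ : Q.IsPrime) =>
    ((IsLocalization.isPrime_iff_isPrime_disjoint (nonZeroDivisors A) _ Q).1 hQ)
  have hmin : M.under A ∈ minimalPrimes A := by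
    by_contra hn
    have := (h M hM.isPrime).1
    obtain ⟨a, ha, han⟩ := exists_nonZeroDivisor_mem (I := M.under A) fun p hp hle =>
      hn ((le_antisymm hle (hp.2 ⟨this, bot_le⟩ hle)) ▸ hp)
    exact Set.disjoint_left.1 (h M hM.isPrime).2 han ha
  have e : P.under A = M.under A :=
    le_antisymm (Ideal.comap_mono hPM) (hmin.2 ⟨(h P hP).1, bot_le⟩ (Ideal.comap_mono hPM))
  have e' := congrArg (Ideal.map (algebraMap A (FractionRing A))) e
  rw [IsLocalization.map_under (nonZeroDivisors A), IsLocalization.map_under (nonZeroDivisors A)] at e'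
  exact e' ▸ hM

/-- Contractions of primes of the total ring of fractions are minimal. -/
theorem under_mem_minimalPrimes {A : Type u} [CommRing A] [IsNoetherianRing A] [IsReduced A]
    (P : Ideal (FractionRing A)) [hP : P.IsPrime] : P.under A ∈ minimalPrimes A := by
  have h := (IsLocalization.isPrime_iff_isPrime_disjoint (nonZeroDivisors A) _ P).1 hP
  by_contra hn
  obtain ⟨a, ha, han⟩ := exists_nonZeroDivisor_mem (I := P.under A) fun p hp hle =>
    hn ((le_antisymm hle (hp.2 ⟨h.1, bot_le⟩ hle)) ▸ hp)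
  exact Set.disjoint_left.1 h.2 han ha

variable {A B B' C P : Type u} [CommRing A] [CommRing B] [CommRing B'] [CommRing C] [CommRing P]
  [Algebra A B']

/-- An étale equivalence relation on an affine chart with a descended finite cover. -/
structure Datum (t s : A →+* C) (ρ : B →+* B') (c : C →+* P) (t' s' : B' →+* P) : Prop where
  eq : t'.comp ρ = s'.comp ρ
  sqt : IsPushout (CommRingCat.ofHom t) (CommRingCat.ofHom (algebraMap A B')) (CommRingCat.ofHom c)
    (CommRingCat.ofHom t')
  sqs : IsPushout (CommRingCat.ofHom s) (CommRingCat.ofHom (algebraMap A B')) (CommRingCat.ofHom c)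
    (CommRingCat.ofHom s')
  flat_t : t.Flat
  flat_s : s.Flat
  incomparable : ∀ q q' : Ideal C, q.IsPrime → q'.IsPrime → q ≤ q' → q.comap s = q'.comap s → q = q'
  radical : ∀ J : Ideal A, J.IsRadical → (J.map t).IsRadical ∧ (J.map s).IsRadical
  refl : ∀ p : Ideal A, p.IsPrime → ∃ q : Ideal C, q.IsPrime ∧ q.comap t = p ∧ q.comap s = p
  symm : ∀ q : Ideal C, q.IsPrime →
    ∃ q' : Ideal C, q'.IsPrime ∧ q'.comap t = q.comap s ∧ q'.comap s = q.comap t
  trans : ∀ q₁ q₂ : Ideal C, q₁.IsPrime → q₂.IsPrime → q₁.comap s = q₂.comap t →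
    ∃ q₃ : Ideal C, q₃.IsPrime ∧ q₃.comap t = q₁.comap t ∧ q₃.comap s = q₂.comap s
  conn : ∀ p₁ ∈ minimalPrimes A, ∀ p₂ ∈ minimalPrimes A,
    ∃ q : Ideal C, q.IsPrime ∧ q.comap t = p₁ ∧ q.comap s = p₂
  surj : ∀ p : Ideal A, p.IsPrime → ∃ Q : Ideal B', Q.IsPrime ∧ Q.comap (algebraMap A B') = p

variable {t s : A →+* C} {ρ : B →+* B'} {c : C →+* P} {t' s' : B' →+* P}

theorem Datum.t_mem_nonZeroDivisors (D : Datum t s ρ c t' s') {a : A} (ha : a ∈ nonZeroDivisors A) :
    t a ∈ nonZeroDivisors C ∧ s a ∈ nonZeroDivisors C := by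
  have key : ∀ f : A →+* C, f.Flat → f a ∈ nonZeroDivisors C := fun f hf => by
    algebraize [f]
    rw [mem_nonZeroDivisors_iff_right]
    intro x hx
    refine (Module.Flat.isSMulRegular_of_nonZeroDivisors (M := C) ha).right_eq_zero_of_smul ?_
    rw [Algebra.smul_def, mul_comm]
    exact hx
  exact ⟨key t D.flat_t, key s D.flat_s⟩

/-- Around a nonzerodivisor there is an invariant closed subset avoiding the generic points. -/
theorem Datum.exists_invariant_le (D : Datum t s ρ c t' s') {a : A} (ha : a ∈ nonZeroDivisors A) :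
    ∃ J : Ideal A, J.map t = J.map s ∧ (∀ p : Ideal A, p.IsPrime → a ∈ p → J ≤ p) ∧
      ∀ p ∈ minimalPrimes A, ¬ J ≤ p := by
  let I : Ideal C := (Ideal.span {t a}).radical
  let J := I.comap s
  have hta : t a ∈ I := Ideal.le_radical (Ideal.mem_span_singleton_self _)
  have hI : ∀ q : Ideal C, q.IsPrime → t a ∈ q → I ≤ q := fun q hq h =>
    hq.radical_le_iff.2 ((Ideal.span_singleton_le_iff_mem _).2 h)
  have hle : ∀ p : Ideal A, p.IsPrime → a ∈ p → J ≤ p := fun p hp hap => by
    obtain ⟨q, hq, hqt, hqs⟩ := D.refl p hp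
    rw [← hqs]
    exact Ideal.comap_mono (hI q hq (by rw [← Ideal.mem_comap, hqt]; exact hap))
  refine ⟨J, ?_, hle, fun p hp hJp => ?_⟩
  · have hJ : J.IsRadical := (Ideal.radical_isRadical (Ideal.span {t a})).comap s
    have key : ∀ q : Ideal C, q.IsPrime → J ≤ q.comap t → J ≤ q.comap s := by
      intro q hq hJq
      obtain ⟨p₀, hp₀, hp₀q⟩ := Ideal.exists_minimalPrimes_le hJq
      have := hp₀.isPrime
      obtain ⟨q₁, hq₁, hIq₁, hq₁s⟩ := Ideal.exists_comap_eq_of_mem_minimalPrimes s p₀ hp₀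
      obtain ⟨q₂, hq₂q, hq₂, hq₂t⟩ : ∃ q₂ : Ideal C, q₂ ≤ q ∧ q₂.IsPrime ∧ q₂.comap t = p₀ := by
        algebraize [t]
        have : Module.Flat A C := D.flat_t
        have : q.LiesOver (q.comap t) := ⟨rfl⟩
        obtain ⟨q₂, h₁, h₂, h₃⟩ := Ideal.exists_ideal_le_liesOver_of_le (Q := q)
          (p := p₀) (q := q.comap t) hp₀q
        exact ⟨q₂, h₁, h₂, h₃.over.symm⟩
      obtain ⟨q₃, hq₃, hq₃t, hq₃s⟩ := D.trans q₁ q₂ hq₁ hq₂ (hq₁s.trans hq₂t.symm)
      refine le_trans ?_ ((hq₃s.trans_le (Ideal.comap_mono hq₂q)))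
      refine Ideal.comap_mono (hI q₃ hq₃ ?_)
      rw [← Ideal.mem_comap, hq₃t]
      exact hIq₁ hta
    have key' : ∀ q : Ideal C, q.IsPrime → J ≤ q.comap s → J ≤ q.comap t := by
      intro q hq hJq
      obtain ⟨q', hq', h₁, h₂⟩ := D.symm q hq
      exact h₂ ▸ key q' hq' (h₁.symm ▸ hJq)
    have hrad : ∀ (f : A →+* C), (J.map f).IsRadical → ∀ x : C,
        (x ∈ J.map f ↔ ∀ q : Ideal C, q.IsPrime → J ≤ q.comap f → x ∈ q) := fun f hf x => by
      conv_lhs => rw [← hf.radical, Ideal.radical_eq_sInf]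
      simp only [Ideal.mem_sInf, Set.mem_ofPred_eq, and_imp, Ideal.map_le_iff_le_comap]
      exact ⟨fun h q hq hJq => h hJq hq, fun h q hJq hq => h q hq hJq⟩
    ext x
    rw [hrad t (D.radical J hJ).1, hrad s (D.radical J hJ).2]
    exact ⟨fun h q hq hJq => h q hq (key' q hq hJq), fun h q hq hJq => h q hq (key q hq hJq)⟩
  · have := hp.isPrime
    obtain ⟨p₀, hp₀, hp₀p⟩ := Ideal.exists_minimalPrimes_le hJp
    obtain rfl : p₀ = p := le_antisymm hp₀p (hp.2 ⟨hp₀.isPrime, bot_le⟩ hp₀p)
    obtain ⟨q, hq, hIq, hqs⟩ := Ideal.exists_comap_eq_of_mem_minimalPrimes s p₀ hp₀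
    obtain ⟨q₀, hq₀, hq₀q⟩ := Ideal.exists_minimalPrimes_le (I := (⊥ : Ideal C)) (J := q) bot_le
    have := hq₀.isPrime
    have e : q₀.comap s = q.comap s :=
      le_antisymm (Ideal.comap_mono hq₀q)
        (hqs.trans_le (hp.2 ⟨Ideal.IsPrime.comap s, bot_le⟩ ((Ideal.comap_mono hq₀q).trans hqs.le)))
    obtain rfl := D.incomparable q₀ q this hq hq₀q e
    exact notMem_nonZeroDivisors_of_mem_mem_minimalPrimes (hIq hta) hq₀
      (D.t_mem_nonZeroDivisors ha).1

/-- The generic fibre of the finite cover is free. -/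
theorem Datum.free [IsNoetherianRing A] [IsReduced A] [Module.Finite A B']
    (D : Datum t s ρ c t' s') : Module.Free (FractionRing A) (FractionRing A ⊗[A] B') := by
  classical
  have := isArtinianRing_fractionRing A
  have := IsArtinianRing.isSemisimpleRing_of_isReduced (FractionRing A)
  let K := FractionRing A
  by_cases hA : Nontrivial A
  · obtain ⟨P₀, hP₀⟩ := Ideal.exists_maximal K
    have hdim : ∀ Q : Ideal K, Q.IsMaximal →
        Module.finrank (K ⧸ Q) ((K ⧸ Q) ⊗[K] (K ⊗[A] B')) =
          Module.finrank (K ⧸ P₀) ((K ⧸ P₀) ⊗[K] (K ⊗[A] B')) := by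
      intro Q hQ
      have hcancel : ∀ R : Ideal K,
          Module.finrank (K ⧸ R) ((K ⧸ R) ⊗[K] (K ⊗[A] B')) =
            Module.finrank (K ⧸ R) ((K ⧸ R) ⊗[A] B') := fun R =>
        (Algebra.TensorProduct.cancelBaseChange A K (K ⧸ R) (K ⧸ R) B').toLinearEquiv.finrank_eq
      rw [hcancel, hcancel]
      obtain ⟨q, hq, hqt, hqs⟩ := D.conn _ (under_mem_minimalPrimes Q) _
        (under_mem_minimalPrimes P₀)
      let F := FractionRing (C ⧸ q)
      let π : C →+* F := algebraMap C F
      have key : ∀ (f : A →+* C) (f' : B' →+* P) (R : Ideal K), R.IsMaximal →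
          q.comap f = R.under A →
          IsPushout (CommRingCat.ofHom f) (CommRingCat.ofHom (algebraMap A B'))
            (CommRingCat.ofHom c) (CommRingCat.ofHom f') →
          (letI := c.toAlgebra;
           Module.finrank F (F ⊗[C] P) = Module.finrank (K ⧸ R) ((K ⧸ R) ⊗[A] B')) := by
        intro f f' R hR hf hsq
        let : Algebra A C := f.toAlgebra
        let : Algebra C P := c.toAlgebra
        let : Algebra B' P := f'.toAlgebra
        let : Algebra A P := (c.comp f).toAlgebra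
        have : IsScalarTower A C P := IsScalarTower.of_algebraMap_eq fun _ => rfl
        have : IsScalarTower A B' P := IsScalarTower.of_algebraMap_eq fun x =>
          congr($(hsq.w).hom x)
        have : Algebra.IsPushout A C B' P := CommRingCat.isPushout_iff_isPushout.1 hsq
        have hker : ∀ x : A, π (f x) = 0 ↔ x ∈ R.under A := fun x => by
          rw [← hf]
          show π (f x) = 0 ↔ f x ∈ q
          rw [show π (f x) = algebraMap (C ⧸ q) F (Ideal.Quotient.mk q (f x)) from
            IsScalarTower.algebraMap_apply C (C ⧸ q) F _, FaithfulSMul.algebraMap_eq_zero_iff]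
          exact Ideal.Quotient.eq_zero_iff_mem
        have hunit : ∀ y : nonZeroDivisors A, IsUnit ((π.comp f) y) := fun y =>
          isUnit_iff_ne_zero.2 fun h0 => notMem_nonZeroDivisors_of_mem_mem_minimalPrimes
            ((hker y).1 h0) (under_mem_minimalPrimes R) y.2
        let l : K →+* F := IsLocalization.lift hunit
        have hl : R ≤ RingHom.ker l := by
          rw [← IsLocalization.map_under (nonZeroDivisors A) K R, Ideal.map_le_iff_le_comap]
          intro x hx
          rw [Ideal.mem_comap, RingHom.mem_ker, IsLocalization.lift_eq]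
          exact (hker x).2 hx
        let : Field (K ⧸ R) := Ideal.Quotient.field R
        let : Algebra (K ⧸ R) F := (Ideal.Quotient.lift R l fun x hx => RingHom.mem_ker.1 (hl hx)).toAlgebra
        have : IsScalarTower A (K ⧸ R) F := IsScalarTower.of_algebraMap_eq fun x => by
          show algebraMap A F x = Ideal.Quotient.lift R l _ (Ideal.Quotient.mk R (algebraMap A K x))
          rw [Ideal.Quotient.lift_mk, IsLocalization.lift_eq]
          exact IsScalarTower.algebraMap_apply A C F x
        exact finrank_pushout A B' C P (F' := F) (K' := K ⧸ R)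
      exact (key t t' Q hQ hqt D.sqt).symm.trans (key s s' P₀ hP₀ hqs D.sqs)
    have : Module.Projective K (K ⊗[A] B') := Module.projective_of_isSemisimpleRing _ _
    exact Module.free_of_flat_of_finrank_eq K _ _ fun Q => hdim Q.1 Q.2
  · have : Subsingleton A := not_nontrivial_iff_subsingleton.1 hA
    have : Subsingleton K := (algebraMap A K).codomain_trivial_iff_map_one_eq_zero.2 (by
      rw [Subsingleton.elim (1 : A) 0, map_zero]) |> subsingleton_of_zero_eq_one
    exact Module.Free.of_subsingleton' K _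

/-- Invariant functions separate comparable primes if the proper closed subspaces are affine. -/
theorem Datum.exists_separating [IsNoetherianRing A] [IsReduced A] [Module.Finite A B']
    (D : Datum t s ρ c t' s')
    (H : ∀ I : Ideal A, I.map t = I.map s → (∀ p ∈ minimalPrimes A, ¬ I ≤ p) →
      (∃ IB : Ideal B, IB.map ρ = I.map (algebraMap A B')) ∧
      ∀ p p' : Ideal A, p.IsPrime → p'.IsPrime → I ≤ p → p < p' →
        ∃ (φ : A) (b : B), φ ∈ p' ∧ φ ∉ p ∧
          ρ b - algebraMap A B' φ ∈ I.map (algebraMap A B'))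
    (p p' : Ideal A) [p.IsPrime] [p'.IsPrime] (hlt : p < p') :
    ∃ r : A, t r = s r ∧ r ∈ p' ∧ r ∉ p := by
  classical
  let K := FractionRing A
  let L := K ⊗[A] B'
  have := isArtinianRing_fractionRing A
  have := D.free
  let ι := Module.Free.ChooseBasisIndex K L
  let bas : Module.Basis ι K L := Module.Free.chooseBasis K L
  let ψ : B' →+* L := (Algebra.TensorProduct.includeRight (R := A) (A := K) (B := B')).toRingHom
  have hcomp : ∀ a, ψ (algebraMap A B' a) = algebraMap K L (algebraMap A K a) := fun a => by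
    show (1 : K) ⊗ₜ[A] algebraMap A B' a = algebraMap A K a ⊗ₜ[A] (1 : B')
    rw [Algebra.algebraMap_eq_smul_one, Algebra.algebraMap_eq_smul_one, TensorProduct.smul_tmul]
  obtain ⟨d, hd, hden⟩ := exists_matrix_den bas (algebraMap A B') ψ
    (RingHom.finite_algebraMap.2 ‹_›) hcomp
  have hne : 0 < Fintype.card ι := by
    obtain ⟨p₀, hp₀, hp₀p⟩ := Ideal.exists_minimalPrimes_le (I := (⊥ : Ideal A)) (J := p) bot_le
    obtain ⟨Q, hQ, hQp⟩ := D.surj p₀ hp₀.isPrime
    let F := FractionRing (B' ⧸ Q)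
    let π : B' →+* F := (algebraMap (B' ⧸ Q) F).comp (Ideal.Quotient.mk Q)
    have hker : ∀ x : A, π (algebraMap A B' x) = 0 ↔ x ∈ p₀ := fun x => by
      rw [← hQp]
      show algebraMap (B' ⧸ Q) F _ = 0 ↔ algebraMap A B' x ∈ Q
      rw [FaithfulSMul.algebraMap_eq_zero_iff]
      exact Ideal.Quotient.eq_zero_iff_mem
    have hπ : ∀ x : A, algebraMap A F x = π (algebraMap A B' x) := fun x => by
      rw [IsScalarTower.algebraMap_apply A (B' ⧸ Q) F]; rfl
    have hunit : ∀ y : nonZeroDivisors A, IsUnit (algebraMap A F y) := fun y =>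
      isUnit_iff_ne_zero.2 fun h0 =>
        notMem_nonZeroDivisors_of_mem_mem_minimalPrimes ((hker y).1 ((hπ y).symm.trans h0)) hp₀ y.2
    let l : K →ₐ[A] F :=
      { IsLocalization.lift hunit with commutes' := fun x => IsLocalization.lift_eq hunit x }
    let m : B' →ₐ[A] F := { π with commutes' := fun x => (hπ x).symm }
    have : Nontrivial L :=
      (Algebra.TensorProduct.lift l m fun _ _ => Commute.all _ _).toRingHom.domain_nontrivial
    exact Fintype.card_pos_iff.2 bas.index_nonempty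
  -- a nonzerodivisor of the larger prime, and of the smaller one if possible
  obtain ⟨a, ha, hap', hap⟩ : ∃ a, a ∈ nonZeroDivisors A ∧ a ∈ p' ∧
      (p ∉ minimalPrimes A → a ∈ p) := by
    by_cases hp : p ∈ minimalPrimes A
    · obtain ⟨a, ha, han⟩ := exists_nonZeroDivisor_mem (I := p') fun m hm hle => by
        exact hlt.not_ge (hle.trans (hm.2 ⟨‹p.IsPrime›, bot_le⟩ (hlt.le.trans hle)))
      exact ⟨a, han, ha, fun h => absurd hp h⟩
    · obtain ⟨a, ha, han⟩ := exists_nonZeroDivisor_mem (I := p) fun m hm hle => by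
        exact hp ((le_antisymm hle (hm.2 ⟨‹p.IsPrime›, bot_le⟩ hle)) ▸ hm)
      exact ⟨a, han, hlt.le ha, fun _ => ha⟩
  obtain ⟨J, hJts, hJle, hJmin⟩ := D.exists_invariant_le (mul_mem hd ha : d * a ∈ nonZeroDivisors A)
  obtain ⟨k, hk⟩ : ∃ k : ℕ, J ^ k ≤ Ideal.span {d} := by
    refine Ideal.exists_pow_le_of_le_radical_of_fg ?_ (IsNoetherian.noetherian _)
    intro j hj
    rw [Ideal.radical_eq_sInf, Ideal.mem_sInf]
    rintro m ⟨hdm, hm⟩
    exact hJle m hm (m.mul_mem_right _ (hdm (Ideal.mem_span_singleton_self _))) hj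
  have hJp' : J ≤ p' := hJle p' ‹_› (p'.mul_mem_left _ hap')
  let I := J ^ (k + 1)
  have hIts : I.map t = I.map s := by rw [Ideal.map_pow, Ideal.map_pow, hJts]
  have hImin : ∀ m ∈ minimalPrimes A, ¬ I ≤ m := fun m hm h =>
    hJmin m hm (hm.isPrime.le_of_pow_le h)
  obtain ⟨⟨IB, hIB⟩, hsep⟩ := H I hIts hImin
  -- norms of elements downstairs are invariant
  have hinv : ∀ (b : B) (h : A), algebraMap A K h = Algebra.norm K (ψ (ρ b)) → t h = s h := by
    intro b h hh
    let KC := FractionRing C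
    refine IsFractionRing.injective C KC ?_
    have key : ∀ (f : A →+* C) (f' : B' →+* P), (∀ y : nonZeroDivisors A, f y ∈ nonZeroDivisors C) →
        IsPushout (CommRingCat.ofHom f) (CommRingCat.ofHom (algebraMap A B'))
          (CommRingCat.ofHom c) (CommRingCat.ofHom f') →
        (letI := c.toAlgebra;
         algebraMap C KC (f h) = Algebra.norm KC ((1 : KC) ⊗ₜ[C] f' (ρ b))) := by
      intro f f' hf hsq
      let : Algebra A C := f.toAlgebra
      let : Algebra C P := c.toAlgebra
      let : Algebra B' P := f'.toAlgebra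
      let : Algebra A P := (c.comp f).toAlgebra
      have : IsScalarTower A C P := IsScalarTower.of_algebraMap_eq fun _ => rfl
      have : IsScalarTower A B' P := IsScalarTower.of_algebraMap_eq fun x => congr($(hsq.w).hom x)
      have : Algebra.IsPushout A C B' P := CommRingCat.isPushout_iff_isPushout.1 hsq
      have hunit : ∀ y : nonZeroDivisors A, IsUnit (algebraMap A KC y) := fun y =>
        IsLocalization.map_units KC (⟨f y, hf y⟩ : nonZeroDivisors C)
      let : Algebra K KC := (IsLocalization.lift hunit).toAlgebra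
      have : IsScalarTower A K KC := IsScalarTower.of_algebraMap_eq fun x =>
        (IsLocalization.lift_eq hunit x).symm
      refine Eq.trans ?_ (norm_pushout A B' C P KC K bas (ρ b)).symm
      exact (IsScalarTower.algebraMap_apply A K KC h).trans (congrArg _ hh)
    rw [key t t' (fun y => (D.t_mem_nonZeroDivisors y.2).1) D.sqt,
      key s s' (fun y => (D.t_mem_nonZeroDivisors y.2).2) D.sqs,
      show t' (ρ b) = s' (ρ b) from RingHom.congr_fun D.eq b]
  have hnorm : ∀ (φ : A) (b : B), ρ b - algebraMap A B' φ ∈ I.map (algebraMap A B') →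
      ∃ h : A, t h = s h ∧ algebraMap A K h = Algebra.norm K (ψ (ρ b)) ∧
        h - φ ^ Fintype.card ι ∈ J := by
    intro φ b hb
    obtain ⟨h, hh, hhJ⟩ := exists_norm_sub_mem bas (algebraMap A B') ψ hcomp hden J k hk φ _ hb
    rw [add_sub_cancel] at hh
    exact ⟨h, hinv b h hh, hh, hhJ⟩
  by_cases hp : p ∈ minimalPrimes A
  · -- an invariant function vanishing on the closed subset
    have : IsArtinianRing L := IsArtinianRing.of_finite K L
    have hQ : ∀ M : Ideal L, M.IsPrime → ¬ IB ≤ M.comap (ψ.comp ρ) := fun M hM hle => by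
      have h1 : I.map (algebraMap A B') ≤ M.comap ψ := by
        rw [← hIB, Ideal.map_le_iff_le_comap, Ideal.comap_comap]; exact hle
      refine hImin _ (under_mem_minimalPrimes (M.comap (algebraMap K L))) ?_
      intro x hx
      show algebraMap K L (algebraMap A K x) ∈ M
      rw [← hcomp]
      exact h1 (Ideal.mem_map_of_mem _ hx)
    have hfin : {M : Ideal L | M.IsPrime}.Finite := IsArtinianRing.setOfPred_isPrime_finite L
    obtain ⟨b, hb, hbu⟩ : ∃ b ∈ IB, IsUnit (ψ (ρ b)) := by
      by_contra hc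
      push Not at hc
      have hs : (IB : Set B) ⊆ ⋃ M ∈ (↑hfin.toFinset : Set (Ideal L)),
          ((M.comap (ψ.comp ρ) : Ideal B) : Set B) := fun b hb => by
        obtain ⟨M, hM, hbM⟩ := exists_max_ideal_of_mem_nonunits (hc b hb)
        exact Set.mem_biUnion (hfin.mem_toFinset.2 hM.isPrime) hbM
      obtain ⟨M, hM, hle⟩ := (Ideal.subset_union_prime
        (f := fun M : Ideal L => M.comap (ψ.comp ρ)) ⊥ ⊥ fun M hM _ _ =>
        have : M.IsPrime := hfin.mem_toFinset.1 hM
        Ideal.IsPrime.comap (ψ.comp ρ)).1 hs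
      exact hQ M (hfin.mem_toFinset.1 hM) hle
    obtain ⟨h, hinv', hh, hhJ⟩ := hnorm 0 b (by
      rw [map_zero, sub_zero, ← hIB]; exact Ideal.mem_map_of_mem _ hb)
    rw [zero_pow hne.ne', sub_zero] at hhJ
    refine ⟨h, hinv', hJp' hhJ, fun hmem => ?_⟩
    have hu : IsUnit (algebraMap A K h) := hh ▸ hbu.map _
    obtain ⟨Q, hQ⟩ : ∃ Q : Ideal K, Q.IsPrime ∧ algebraMap A K h ∈ Q := by
      have hd : Disjoint (nonZeroDivisors A : Set A) (p : Set A) :=
        (Ideal.disjoint_nonZeroDivisors_of_mem_minimalPrimes hp).symm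
      exact ⟨p.map (algebraMap A K), IsLocalization.isPrime_of_isPrime_disjoint _ K p ‹_› hd,
        Ideal.mem_map_of_mem _ hmem⟩
    exact hQ.1.ne_top (Ideal.eq_top_of_isUnit_mem _ hQ.2 hu)
  · have hJp : J ≤ p := hJle p ‹_› (p.mul_mem_left _ (hap hp))
    obtain ⟨φ, b, hφ', hφ, hb⟩ :=
      hsep p p' ‹_› ‹_› ((Ideal.pow_le_self (Nat.succ_ne_zero k)).trans hJp) hlt
    obtain ⟨h, hinv', -, hhJ⟩ := hnorm φ b hb
    refine ⟨h, hinv', ?_, fun hmem => hφ ?_⟩
    · have := p'.add_mem (hJp' hhJ) (p'.pow_mem_of_mem hφ' _ hne)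
      rwa [sub_add_cancel] at this
    · have := p.sub_mem hmem (hJp hhJ)
      rw [sub_sub_cancel] at this
      exact Ideal.IsPrime.mem_of_pow_mem ‹_› _ this

end

end Groth.AlgSp2.Chevalley
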