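import Groth.Agent.AlgSp2.Chevalley.Main
import Groth.Agent.AlgSp2.Absolute.RelApprox
import Groth.Agent.AlgSp2.FiniteTfae
import Groth.Agent.SpLimit.SepEventual
import Groth.Agent.SpLimit.MonoEventual
import Groth.Agent.AlgSp3.RedInduced

/-!
# Separated universal homeomorphisms of algebraic spaces
-/

set_option autoImplicit false
set_option linter.unusedSectionVars false
set_option backward.isDefEq.respectTransparency.types false
universe u

open CategoryTheory CategoryTheory.Limits AlgebraicGeometry Opposite AlgSp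
open Groth.AlgSpBasic Groth.AlgSp2 Groth.AlgSp2.Absolute Groth.SpLimit

namespace Groth.AlgSp2.Chevalley

noncomputable section

variable {S : Scheme.{u}}

theorem isUnivClosedMor_of_univHomeo {X Y : Sp S} {f : X ⟶ Y} (h : IsUnivHomeoMor f) :
    IsUnivClosedMor f :=
  fun _ _ hT g fst snd sq => (h hT g fst snd sq).isClosedMap

theorem isUnivHomeoMor_of_isPullback {X Y X' Y' : Sp S} {f : X ⟶ Y} {g : Y' ⟶ Y} {fst : X' ⟶ X}
    {f' : X' ⟶ Y'} (sq : IsPullback fst f' f g) (h : IsUnivHomeoMor f) : IsUnivHomeoMor f' :=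
  fun _ _ hT _ _ p₂ sq' => h hT _ _ p₂ (sq'.paste_horiz sq)

theorem isHomeomorph_map_of_univHomeo {X Y : Sp S} (hY : IsAlgSpace Y) {f : X ⟶ Y}
    (h : IsUnivHomeoMor f) : IsHomeomorph (AlgSp.Points.map f) :=
  h hY (𝟙 Y) (𝟙 X) f (IsPullback.of_horiz_isIso ⟨by simp⟩)

/-- A separated universally closed morphism of finite type to an affine scheme which is injective on
points is finite. -/
theorem isFiniteMor_of_injective [QuasiSeparatedSpace S] {C : Sp S} (hC : IsAlgSpace C)
    (hCc : IsQuasiCompactSp C) (hCs : IsQuasiSeparatedSp C) {Z : Over S}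
    {q : C ⟶ (yon S).obj Z} (hlft : LocP @LocallyOfFiniteType q) (hsep : IsSeparatedMor q)
    (huc : IsUnivClosedMor q) (hinj : Function.Injective (AlgSp.Points.map q)) :
    IsFiniteMor q := by
  refine isFiniteMor_of_univClosed_sep_lqf hC (IsAlgSpace.yon_obj Z) huc hsep ?_
  obtain ⟨V, b, hV, hb, hbs⟩ := Groth.AlgSpBasic.exists_affine_chart hC hCc
  obtain ⟨k, hk⟩ := (yon S).map_surjective (b ≫ q)
  have hkf : LocallyOfFiniteType k.left :=
    hlft b (𝟙 _) k hb (repWith_id _ _) (by rw [Category.comp_id, hk])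
  refine locP_of_chart (h := k) hC.diag (IsAlgSpace.yon_obj Z).diag hb hbs (b := 𝟙 _)
    (repWith_id _ _) (by rw [Category.comp_id, hk]) ⟨?_, hkf⟩
  obtain ⟨R, t, s, sqR⟩ := exists_pullback_of_diag hC.diag b b
  have : CompactSpace R.left := compactSpace_pullback_of_qs hCs sqR
  have : Etale s.left := (repWith_yon_map_iff _ s).1 (repWith_of_isPullback sqR hb)
  have : QuasiSeparatedSpace V.left := inferInstance
  have : QuasiCompact s.left := quasiCompact_of_compactSpace s.left
  have : LocallyQuasiFinite s.left := Groth.AlgSpBasic.locallyQuasiFinite_of_formallyUnramified _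
  refine LocallyQuasiFinite.of_finite_preimage_singleton (f := k.left) fun z => ?_
  rcases (k.left ⁻¹' {z}).eq_empty_or_nonempty with h | ⟨v₀, hv₀⟩
  · rw [h]; exact Set.finite_empty
  refine ((s.left.finite_preimage_singleton v₀).image t.left).subset fun v hv => ?_
  have e : AlgSp.Points.map q (AlgSp.Points.ofPt b v) = AlgSp.Points.map q (AlgSp.Points.ofPt b v₀) := by
    rw [AlgSp.Points.map_ofPt, AlgSp.Points.map_ofPt, ← hk, ← Category.comp_id ((yon S).map k),
      ofPt_comp_yon, ofPt_comp_yon, show k.left v = z from hv, show k.left v₀ = z from hv₀]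
  obtain ⟨r, hr, hr'⟩ := (ofPt_eq_ofPt_iff sqR v v₀).1 (hinj e)
  exact ⟨r, hr', hr⟩

/-- A space with a separated universal homeomorphism to an affine scheme is affine. -/
theorem exists_iso_affine_of_univHomeo [QuasiSeparatedSpace S] {P : Sp S} (hP : IsAlgSpace P)
    {Z : Over S} [IsAffine Z.left] {p : P ⟶ (yon S).obj Z} (hsep : IsSeparatedMor p)
    (hh : IsUnivHomeoMor p) : ∃ T : Over S, IsAffine T.left ∧ Nonempty ((yon S).obj T ≅ P) := by
  have hZ : IsAlgSpace ((yon S).obj Z) := IsAlgSpace.yon_obj Z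
  have hbij := (isHomeomorph_map_of_univHomeo hZ hh).bijective
  have hPc : IsQuasiCompactSp P := by
    refine (isQuasiCompactSp_iff_compactSpace hP).2 ?_
    have : CompactSpace (AlgSp.Points ((yon S).obj Z)) :=
      (AlgSp.Points.schemeHomeo Z).compactSpace
    exact (isHomeomorph_map_of_univHomeo hZ hh).homeomorph.symm.compactSpace
  have hPs : IsQuasiSeparatedSp P :=
    isQuasiSeparatedSp_of_sepMor hsep (isQuasiSeparatedSp_yon_affine Z)
  obtain ⟨I, hI, hI', hIne, D, t, c, hc, e, hD, hDa, hDq, hDf, hte⟩ :=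
    exists_limit_fp hP hPc hPs hZ (isQuasiSeparatedSp_yon_affine Z) p
  have hsep' : IsSeparatedMor (e.hom ≫ p) := repWith_diagonal_comp
    ((repWith_isSeparated_iff (repWith_isIso (P := @IsSeparated) e.hom).rep).2 (repWith_isIso _))
    hsep
  obtain ⟨i, hi⟩ := exists_isSeparated_app hc hD hDa (fun j => (hDq j).1) (fun j => (hDq j).2) hZ
    (isQuasiSeparatedSp_yon_affine Z) t (e.hom ≫ p)
    (fun j => by rw [← hte j, Iso.hom_inv_id_assoc]) hsep'
  have hti : IsSeparatedMor (t.app i) := hi i (𝟙 i)
  let π : P ⟶ D.obj i := e.inv ≫ c.π.app i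
  have hπa : RepWith @IsAffineHom π :=
    repWith_comp (repWith_isIso e.inv) (isAffineMor_iff_repWith.1 (isAffineMor_π D hDa hc i))
  have hπt : π ≫ t.app i = p := by rw [← hte i]; exact Category.assoc _ _ _
  obtain ⟨-, hcl⟩ := univClosed_of_comp_separated hP (hD i) hZ hπt hti
    (isUnivClosedMor_of_univHomeo hh)
  obtain ⟨C, j, hC, hj, hrange, -⟩ := Groth.AlgSp3.exists_isRedInduced (hD i) hcl
  have hja : RepWith @IsAffineHom j :=
    repWith_mono (fun _ _ k (_ : IsClosedImmersion k) => (inferInstance : IsAffineHom k)) hj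
  let q : C ⟶ (yon S).obj Z := j ≫ t.app i
  have hCs : IsQuasiSeparatedSp C :=
    Groth.AlgSp2.Approx.isQuasiSeparatedSp_of_affineMor hC (isAffineMor_iff_repWith.2 hja)
      (hDq i).2
  have hCc : IsQuasiCompactSp C :=
    Groth.AlgSp2.Approx.isQuasiCompactSp_of_affineMor hC (isAffineMor_iff_repWith.2 hja) (hD i)
      (hDq i).1
  have hqs : IsSeparatedMor q := repWith_diagonal_comp ((repWith_isSeparated_iff hj.rep).2
    (repWith_mono (fun _ _ k (_ : IsClosedImmersion k) => (inferInstance : IsSeparated k)) hj)) hti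
  have hqf : LocP @LocallyOfFiniteType q := locP_comp hC (hD i) hZ
    (locP_of_repWith (repWith_mono (fun _ _ k (_ : IsClosedImmersion k) =>
      (inferInstance : LocallyOfFiniteType k)) hj))
    (locP_mono (P := @LocallyOfFinitePresentation) (fun _ _ k (_ : LocallyOfFinitePresentation k) =>
      (inferInstance : LocallyOfFiniteType k)) (hDf i).1)
  -- the base change of the closed immersion to the limit
  have sq := IsPullback.of_hasPullback π j
  let P' : Space S := ⟨pullback π j, isAlgSpace_of_isPullback sq (hD i).diag hP hC⟩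
  have hp' : RepWith @IsClosedImmersion (pullback.fst π j) := repWith_of_isPullback sq.flip hj
  have hpf : IsSurjectiveMor (pullback.snd π j) := fun x => by
    obtain ⟨y, hy⟩ := hrange.le ⟨x, rfl⟩
    obtain ⟨w, -, hw⟩ := Groth.AlgSpBasic.exists_point_of_isPullback sq y x hy
    exact ⟨w, hw⟩
  have hps : IsSurjectiveMor (pullback.fst π j) := fun y => by
    obtain ⟨x, hx⟩ := hrange.ge ⟨y, rfl⟩
    obtain ⟨w, hw, -⟩ := Groth.AlgSpBasic.exists_point_of_isPullback sq y x hx.symm
    exact ⟨w, hw⟩
  have hp'u : IsUnivClosedMor (pullback.fst π j) := isUnivClosedMor_of_repWith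
    (repWith_mono (fun _ _ k (_ : IsClosedImmersion k) => (inferInstance : UniversallyClosed k)) hp')
  have hcomm : pullback.snd π j ≫ q = pullback.fst π j ≫ p := by
    rw [← hπt, ← Category.assoc, ← Category.assoc, pullback.condition]
  have hqu : IsUnivClosedMor q := Groth.AlgSpBasic.isUnivClosedMor_of_surjective P'.property hC hpf
    (by rw [hcomm]; exact isUnivClosedMor_comp hP hZ hp'u (isUnivClosedMor_of_univHomeo hh))
  have hqi : Function.Injective (AlgSp.Points.map q) := by
    intro x x' hx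
    obtain ⟨w, rfl⟩ := hpf x
    obtain ⟨w', rfl⟩ := hpf x'
    rw [← AlgSp.Points.map_comp, ← AlgSp.Points.map_comp, hcomm, AlgSp.Points.map_comp,
      AlgSp.Points.map_comp] at hx
    rw [injective_map_of_repWith (P := @IsClosedImmersion)
      (fun _ _ φ (_ : IsClosedImmersion φ) => φ.isClosedEmbedding.injective) hp' (hbij.1 hx)]
  -- the image is finite over the base
  have hfin := (isFiniteMor_iff hC hZ).1 (isFiniteMor_of_injective hC hCc hCs hqf hqs hqu hqi)
  obtain ⟨M, m, l, sqM⟩ := hfin.rep (𝟙 ((yon S).obj Z))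
  have : IsFinite m.left := hfin.property _ l m sqM
  have : IsAffine M.left := isAffine_of_isAffineHom m.left
  have : IsIso l := sqM.isIso_fst_of_isIso
  obtain ⟨N, n, l', sqN⟩ := hπa.rep (l ≫ j)
  have : IsAffineHom n.left := hπa.property _ l' n sqN
  have : IsAffine N.left := isAffine_of_isAffineHom n.left
  have hl' : RepWith @IsClosedImmersion l' :=
    repWith_of_isPullback sqN.flip (repWith_comp (repWith_isIso l) hj)
  have hl's : IsSurjectiveMor l' := fun y => by
    obtain ⟨x, hx⟩ := hrange.ge ⟨y, rfl⟩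
    obtain ⟨w, hw, -⟩ := Groth.AlgSpBasic.exists_point_of_isPullback sqN y
      (AlgSp.Points.map (inv l) x) (by rw [← AlgSp.Points.map_comp, IsIso.inv_hom_id_assoc, hx])
    exact ⟨w, hw⟩
  exact exists_iso_affine hP hl's (isUnivClosedMor_of_repWith
    (repWith_mono (fun _ _ k (_ : IsClosedImmersion k) => (inferInstance : UniversallyClosed k)) hl'))

/-- A separated universal homeomorphism is integral. -/
theorem isIntegralMor_of_univHomeo [QuasiSeparatedSpace S] {X Y : Sp S} (hX : IsAlgSpace X)
    (hY : IsAlgSpace Y) {f : X ⟶ Y} (hsep : IsSeparatedMor f) (hh : IsUnivHomeoMor f) :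
    IsIntegralMor f := by
  intro Z _ g
  have sq := IsPullback.of_hasPullback f g
  have hP : IsAlgSpace (pullback f g) :=
    isAlgSpace_of_isPullback sq hY.diag hX (IsAlgSpace.yon_obj Z)
  have hh' := isUnivHomeoMor_of_isPullback sq hh
  obtain ⟨T, hT, ⟨eT⟩⟩ :=
    exists_iso_affine_of_univHomeo hP (repWith_diagonal_baseChange sq hsep) hh'
  obtain ⟨l, hl⟩ := (yon S).map_surjective (eT.hom ≫ pullback.snd f g)
  refine ⟨T, l, eT.hom ≫ pullback.fst f g, ?_, hT, ?_⟩
  · rw [hl]
    exact IsPullback.of_iso sq eT.symm (Iso.refl _) (Iso.refl _) (Iso.refl _)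
      (by simp) (by simp) (by simp) (by simp)
  · have : IsAffineHom l.left := isAffineHom_of_isAffine l.left
    have : UniversallyClosed l.left := by
      refine (repWith_yon_map_iff @UniversallyClosed l).1 ((repWith_universallyClosed_iff
        (representable_yon_map l)).2 ?_)
      rw [hl]
      exact isUnivClosedMor_comp hP (IsAlgSpace.yon_obj Z) (isUnivClosedMor_of_repWith
        (repWith_isIso eT.hom)) (isUnivClosedMor_of_univHomeo hh')
    exact IsIntegralHom.iff_universallyClosed_and_isAffineHom.2 ⟨‹_›, ‹_›⟩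

end

end Groth.AlgSp2.Chevalley
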